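import Groth.Agent.Etdl.H425.RSec
import Groth.Agent.Etcore.HpVia
import Groth.Agent.EtpbcB.BigFam

/-!
# Cohomology of the base changes `T ×_Y X` and germs of `R^n f_* F`

* `HB f F t n = H^n(T ×_Y X, F)`, functorial in `T` (`rb`).
* `gr f F n l hl x` : the germ of `R^n f_* F` at `ξ` attached to a class `x ∈ H^n(V ×_Y X, F)`,
  `V` étale over `Y` and `l` a lift of `ξ` to `V`; every germ is of this form (`exists_gr`), and
  `gr x = gr x'` iff `x` and `x'` agree on a smaller neighbourhood (`gr_eq`).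
* `stkH f F n ξ : (R^n f_* F)_ξ →+ H^n(X_ξ, F)`, `stkH_gr`.
-/

set_option autoImplicit false
universe u
open CategoryTheory CategoryTheory.Limits AlgebraicGeometry Opposite Abelian
open scoped Groth.Agent.Etcore.EtInst
open Groth.Agent.Etcore.EtInst

namespace Groth.Agent.Etdl.H425.HB

open Groth.Agent.Etcore.HQ Groth.Agent.Etcore.RpushLoc Groth.Agent.Etdl.H425.RSec
open Groth.Agent.EtpbcB.Big Groth.Agent.Etcore.HpullCalc

section HB

variable {X Y : Scheme.{u}} (f : X ⟶ Y) (F : EtCoh.Ab X)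

/-- The cohomology of `T ×_Y X`. -/
noncomputable abbrev HB {T : Scheme.{u}} (t : T ⟶ Y) (n : ℕ) : Type (u + 1) :=
  HQ F (pullback.snd t f) n

/-- The base changed morphism. -/
noncomputable def bm {T T' : Scheme.{u}} {t : T ⟶ Y} {t' : T' ⟶ Y} (φ : T' ⟶ T) (h : φ ≫ t = t') :
    pullback t' f ⟶ pullback t f :=
  pullback.lift (pullback.fst t' f ≫ φ) (pullback.snd t' f)
    (by rw [Category.assoc, h, pullback.condition])

theorem bm_snd {T T' : Scheme.{u}} {t : T ⟶ Y} {t' : T' ⟶ Y} (φ : T' ⟶ T) (h : φ ≫ t = t') :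
    bm f φ h ≫ pullback.snd t f = pullback.snd t' f := pullback.lift_snd _ _ _

theorem bm_fst {T T' : Scheme.{u}} {t : T ⟶ Y} {t' : T' ⟶ Y} (φ : T' ⟶ T) (h : φ ≫ t = t') :
    bm f φ h ≫ pullback.fst t f = pullback.fst t' f ≫ φ := pullback.lift_fst _ _ _

theorem bm_bm {T T' T'' : Scheme.{u}} {t : T ⟶ Y} {t' : T' ⟶ Y} {t'' : T'' ⟶ Y} (φ : T' ⟶ T)
    (h : φ ≫ t = t') (ψ : T'' ⟶ T') (h' : ψ ≫ t' = t'') (χ : T'' ⟶ T) (e : ψ ≫ φ = χ)
    (h'' : χ ≫ t = t'') : bm f ψ h' ≫ bm f φ h = bm f χ h'' := by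
  apply pullback.hom_ext
  · rw [Category.assoc, bm_fst, ← Category.assoc, bm_fst, Category.assoc, e, bm_fst]
  · rw [Category.assoc, bm_snd, bm_snd, bm_snd]

theorem bm_id {T : Scheme.{u}} (t : T ⟶ Y) (h : 𝟙 T ≫ t = t) : bm f (𝟙 T) h = 𝟙 _ := by
  apply pullback.hom_ext
  · rw [bm_fst, Category.comp_id, Category.id_comp]
  · rw [bm_snd, Category.id_comp]

theorem isPullback_bm {T T' : Scheme.{u}} {t : T ⟶ Y} {t' : T' ⟶ Y} (φ : T' ⟶ T)
    (h : φ ≫ t = t') : IsPullback (bm f φ h) (pullback.fst t' f) (pullback.fst t f) φ := by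
  have h1 : IsPullback (pullback.snd t f) (pullback.fst t f) f t :=
    (IsPullback.of_hasPullback t f).flip
  have h2 : IsPullback (bm f φ h ≫ pullback.snd t f) (pullback.fst t' f) f (φ ≫ t) := by
    rw [bm_snd, h]
    exact (IsPullback.of_hasPullback t' f).flip
  exact IsPullback.of_right h2 (bm_fst f φ h) h1

/-- Pullback of classes. -/
noncomputable def rb {T T' : Scheme.{u}} {t : T ⟶ Y} {t' : T' ⟶ Y} (φ : T' ⟶ T) (h : φ ≫ t = t')
    (n : ℕ) : HB f F t n →+ HB f F t' n :=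
  res F (bm f φ h) (bm_snd f φ h) n

theorem rb_rb {T T' T'' : Scheme.{u}} {t : T ⟶ Y} {t' : T' ⟶ Y} {t'' : T'' ⟶ Y} (φ : T' ⟶ T)
    (h : φ ≫ t = t') (ψ : T'' ⟶ T') (h' : ψ ≫ t' = t'') (χ : T'' ⟶ T) (e : ψ ≫ φ = χ)
    (h'' : χ ≫ t = t'') (n : ℕ) (x : HB f F t n) :
    rb f F ψ h' n (rb f F φ h n x) = rb f F χ h'' n x :=
  res_res F _ _ _ _ _ (bm_bm f φ h ψ h' χ e h'') _ n x

theorem rb_congr {T T' : Scheme.{u}} {t : T ⟶ Y} {t' : T' ⟶ Y} {φ φ' : T' ⟶ T} (e : φ = φ')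
    (h : φ ≫ t = t') (h' : φ' ≫ t = t') (n : ℕ) (x : HB f F t n) :
    rb f F φ h n x = rb f F φ' h' n x := by
  subst e; rfl

variable {F} in
theorem rb_map {G : EtCoh.Ab X} (a : F ⟶ G) {T T' : Scheme.{u}} {t : T ⟶ Y} {t' : T' ⟶ Y}
    (φ : T' ⟶ T) (h : φ ≫ t = t') (n : ℕ) (x : HB f F t n) :
    rb f G φ h n (map a _ n x) = map a _ n (rb f F φ h n x) :=
  res_map a _ _ n x

/-! ### Restriction along isomorphisms -/

omit f in
theorem res_bijective {Z Z' : Scheme.{u}} {q : Z ⟶ X} {q' : Z' ⟶ X} (k : Z' ⟶ Z) [IsIso k]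
    (h : k ≫ q = q') (n : ℕ) : Function.Bijective (res F k h n) := by
  have i1 : PreservesFiniteLimits (EtCoh.pull k) := Groth.Agent.S0101.result k
  have h1 : Function.Bijective (hp k ((EtCoh.pull q).obj F) n) :=
    Groth.Agent.Etcore.HpVia.hp_bijective_of_isIso k _ n
  exact (HHmap_bijective (Groth.Agent.Etcore.PullCoh.th k q q' h F) n).comp h1

omit f in
theorem res_id {Z : Scheme.{u}} {q : Z ⟶ X} (h : 𝟙 Z ≫ q = q) (n : ℕ) (x : HQ F q n) :
    res F (𝟙 Z) h n x = x :=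
  (res_bijective F (𝟙 Z) h n).1 (res_res F (𝟙 Z) h (𝟙 Z) h (𝟙 Z) (Category.comp_id _) h n x)

theorem rb_id {T : Scheme.{u}} {t : T ⟶ Y} (h : 𝟙 T ≫ t = t) (n : ℕ) (x : HB f F t n) :
    rb f F (𝟙 T) h n x = x :=
  (res_congr F (bm_id f t h) _ (Category.id_comp _) n x).trans (res_id F _ n x)

/-! ### Étale schemes over `Y` -/

/-- The structure morphism, with a clean type. -/
noncomputable def vh (V : Y.Etale) : V.left ⟶ Y := V.hom

theorem vh_eq (V : Y.Etale) : vh V = V.hom := rfl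

instance (V : Y.Etale) : Etale (vh V) := V.prop

theorem vw {V W : Y.Etale} (g : W ⟶ V) : g.left ≫ vh V = vh W := et_w g

/-- The two models of `V ×_Y X`. -/
noncomputable def io (V : Y.Etale) : ((EtCoh.bc f).obj V).left ⟶ pullback (vh V) f :=
  pullback.lift (bcFst f V) (pr f V) (bc_condition f V)

theorem io_fst (V : Y.Etale) : io f V ≫ pullback.fst (vh V) f = bcFst f V := pullback.lift_fst _ _ _

theorem io_snd (V : Y.Etale) : io f V ≫ pullback.snd (vh V) f = pr f V := pullback.lift_snd _ _ _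

/-- The inverse. -/
noncomputable def oi (V : Y.Etale) : pullback (vh V) f ⟶ ((EtCoh.bc f).obj V).left :=
  (isPullback_bc f V).flip.lift (pullback.snd (vh V) f) (pullback.fst (vh V) f)
    pullback.condition.symm

theorem oi_fst (V : Y.Etale) : oi f V ≫ bcFst f V = pullback.fst (vh V) f :=
  (isPullback_bc f V).flip.lift_snd _ _ _

theorem oi_pr (V : Y.Etale) : oi f V ≫ pr f V = pullback.snd (vh V) f :=
  (isPullback_bc f V).flip.lift_fst _ _ _

theorem io_oi (V : Y.Etale) : io f V ≫ oi f V = 𝟙 _ := by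
  apply hom_ext_bc
  · rw [Category.assoc, oi_fst, io_fst, Category.id_comp]
  · have h1 : (io f V ≫ oi f V) ≫ pr f V = 𝟙 _ ≫ pr f V := by
      rw [Category.assoc, oi_pr, io_snd, Category.id_comp]
    exact h1

theorem oi_io (V : Y.Etale) : oi f V ≫ io f V = 𝟙 _ := by
  apply pullback.hom_ext
  · rw [Category.assoc, io_fst, oi_fst, Category.id_comp]
  · rw [Category.assoc, io_snd, oi_pr, Category.id_comp]

instance (V : Y.Etale) : IsIso (io f V) := ⟨oi f V, io_oi f V, oi_io f V⟩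

theorem mm_io {V W : Y.Etale} (g : W ⟶ V) :
    mm f g ≫ io f V = io f W ≫ bm f g.left (vw g) := by
  apply pullback.hom_ext
  · rw [Category.assoc, io_fst, Category.assoc, bm_fst, ← Category.assoc, io_fst]
    exact bc_map_fst f g
  · rw [Category.assoc, io_snd, Category.assoc, bm_snd, io_snd]
    exact mm_pr f g

/-- Classes on the two models. -/
noncomputable def ro (n : ℕ) (V : Y.Etale) : HB f F (vh V) n →+ HQ F (pr f V) n :=
  res F (io f V) (io_snd f V) n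

theorem ro_bijective (n : ℕ) (V : Y.Etale) : Function.Bijective (ro f F n V) :=
  res_bijective F _ _ n

theorem ro_rb {n : ℕ} {V W : Y.Etale} (g : W ⟶ V) (x : HB f F (vh V) n) :
    ro f F n W (rb f F g.left (vw g) n x) = res F (mm f g) (mm_pr f g) n (ro f F n V x) := by
  have h : (mm f g ≫ io f V) ≫ pullback.snd (vh V) f = pr f W := by
    rw [Category.assoc, io_snd, mm_pr]
  rw [ro, ro, rb, res_res F _ _ _ _ _ (mm_io f g).symm h, res_res F _ _ _ _ _ rfl h]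

/-- The section of `R^n f_* F` attached to a class. -/
noncomputable def rs (n : ℕ) (V : Y.Etale) :
    HB f F (vh V) n →+ EtCoh.sect ((EtCoh.Rpush f n).obj F) V :=
  (rsec f F n V).comp (ro f F n V)

theorem rs_apply (n : ℕ) (V : Y.Etale) (x : HB f F (vh V) n) :
    rs f F n V x = rsec f F n V (ro f F n V x) := rfl

theorem rs_res {n : ℕ} {V W : Y.Etale} (g : W ⟶ V) (x : HB f F (vh V) n) :
    ((EtCoh.Rpush f n).obj F).obj.map g.op (rs f F n V x) =
      rs f F n W (rb f F g.left (vw g) n x) := by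
  rw [rs_apply, rs_apply, ro_rb]
  exact rsec_res f F n g (ro f F n V x)

variable {F} in
theorem map_rs {n : ℕ} {G : EtCoh.Ab X} (φ : F ⟶ G) (V : Y.Etale) (x : HB f F (vh V) n) :
    ((EtCoh.Rpush f n).map φ).hom.app (op V) (rs f F n V x) =
      rs f G n V (map φ _ n x) := by
  have h : map φ (pr f V) n (ro f F n V x) = ro f G n V (map φ _ n x) :=
    (res_map φ (io f V) (io_snd f V) n x).symm
  rw [rs_apply, rs_apply, ← h]
  exact map_rsec f F n φ V (ro f F n V x)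

theorem rs_eq_zero {n : ℕ} {V : Y.Etale} (x : HB f F (vh V) n) (hx : rs f F n V x = 0) :
    ∃ S ∈ Y.smallEtaleTopology V, ∀ (W : Y.Etale) (g : W ⟶ V), S g →
      rb f F g.left (vw g) n x = 0 := by
  obtain ⟨S, hS, h⟩ := rsec_eq_zero f F n (ro f F n V x) hx
  refine ⟨S, hS, fun W g hg => (ro_bijective f F n W).1 ?_⟩
  rw [ro_rb, h W g hg, map_zero]

theorem exists_rs {n : ℕ} {V : Y.Etale} (s : EtCoh.sect ((EtCoh.Rpush f n).obj F) V) :
    ∃ S ∈ Y.smallEtaleTopology V, ∀ (W : Y.Etale) (g : W ⟶ V), S g →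
      ∃ x, rs f F n W x = ((EtCoh.Rpush f n).obj F).obj.map g.op s := by
  obtain ⟨S, hS, h⟩ := exists_rsec f F n s
  refine ⟨S, hS, fun W g hg => ?_⟩
  obtain ⟨x, hx⟩ := h W g hg
  obtain ⟨x, rfl⟩ := (ro_bijective f F n W).2 x
  exact ⟨x, hx⟩

end HB

section Germ

variable {X Y : Scheme.{u}} (f : X ⟶ Y) (F : EtCoh.Ab X) {Ω : Type u} [Field Ω] [IsSepClosed Ω]
  {ξ : Spec (.of Ω) ⟶ Y}

/-- The germ of `R^n f_* F` attached to a class. -/
noncomputable def gr (n : ℕ) {V : Y.Etale} (l : Spec (.of Ω) ⟶ V.left) (hl : l ≫ vh V = ξ) :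
    HB f F (vh V) n →+ Stk ((EtCoh.Rpush f n).obj F) ξ :=
  (germ ((EtCoh.Rpush f n).obj F) l hl).hom.comp (rs f F n V)

theorem gr_apply (n : ℕ) {V : Y.Etale} (l : Spec (.of Ω) ⟶ V.left) (hl : l ≫ vh V = ξ)
    (x : HB f F (vh V) n) :
    gr f F n l hl x = germ ((EtCoh.Rpush f n).obj F) l hl (rs f F n V x) := rfl

theorem gr_rb (n : ℕ) {V W : Y.Etale} (g : W ⟶ V) (m : Spec (.of Ω) ⟶ W.left)
    (hm : m ≫ vh W = ξ) (l : Spec (.of Ω) ⟶ V.left) (hl : l ≫ vh V = ξ) (e : m ≫ g.left = l)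
    (x : HB f F (vh V) n) :
    gr f F n m hm (rb f F g.left (vw g) n x) = gr f F n l hl x := by
  rw [gr_apply, gr_apply, ← rs_res]
  exact germ_res' _ g m hm l hl e _

/-- A class whose germ vanishes dies on a smaller neighbourhood. -/
theorem dies_of_gr_eq_zero (n : ℕ) {V : Y.Etale} (l : Spec (.of Ω) ⟶ V.left)
    (hl : l ≫ vh V = ξ) (x : HB f F (vh V) n) (hx : gr f F n l hl x = 0) :
    ∃ (W : Y.Etale) (g : W ⟶ V) (m : Spec (.of Ω) ⟶ W.left), m ≫ g.left = l ∧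
      rb f F g.left (vw g) n x = 0 := by
  have h1 : germ ((EtCoh.Rpush f n).obj F) l hl (rs f F n V x) =
      germ ((EtCoh.Rpush f n).obj F) l hl 0 := by
    rw [map_zero]
    exact hx
  obtain ⟨W, g, m, hm, h2⟩ := (germ_eq_iff _ l hl _ _).1 h1
  rw [map_zero, rs_res] at h2
  obtain ⟨S, hS, h3⟩ := rs_eq_zero f F _ h2
  obtain ⟨W', g', w', hg', hw'⟩ := (Groth.Agent.Etbase.EtSite.mem_iff W S).1 hS (m default)
  obtain ⟨m', hm', -⟩ := exists_lift g'.left m w' hw'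
  refine ⟨W', g' ≫ g, m', ?_, ?_⟩
  · have e : (g' ≫ g).left = g'.left ≫ g.left := rfl
    rw [e, ← Category.assoc, hm', hm]
  · have h5 := h3 W' g' hg'
    exact (rb_rb f F g.left (vw g) g'.left (vw g') (g' ≫ g).left rfl (vw (g' ≫ g)) n x).symm.trans
      h5

/-- Every germ comes from a class. -/
theorem exists_gr (n : ℕ) (σ : Stk ((EtCoh.Rpush f n).obj F) ξ) :
    ∃ (V : Y.Etale) (l : Spec (.of Ω) ⟶ V.left) (hl : l ≫ vh V = ξ) (x : HB f F (vh V) n),
      gr f F n l hl x = σ := by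
  obtain ⟨V, l, hl, s, rfl⟩ := exists_germ ((EtCoh.Rpush f n).obj F) σ
  obtain ⟨S, hS, h3⟩ := exists_rs f F s
  obtain ⟨W, g, w, hg, hw⟩ := (Groth.Agent.Etbase.EtSite.mem_iff V S).1 hS (l default)
  obtain ⟨m, hm, -⟩ := exists_lift g.left l w hw
  obtain ⟨x, hx⟩ := h3 W g hg
  have hm' : m ≫ vh W = ξ := by rw [← vw g, ← Category.assoc, hm]; exact hl
  refine ⟨W, m, hm', x, ?_⟩
  exact (gr_apply f F n m hm' x).trans ((congrArg (germ ((EtCoh.Rpush f n).obj F) m hm') hx).trans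
    (germ_res' _ g m hm' l hl hm s))

omit [IsSepClosed Ω] in
/-- Two étale neighbourhoods have a common refinement. -/
theorem exists_common {V V' : Y.Etale} (l : Spec (.of Ω) ⟶ V.left) (hl : l ≫ vh V = ξ)
    (l' : Spec (.of Ω) ⟶ V'.left) (hl' : l' ≫ vh V' = ξ) :
    ∃ (W : Y.Etale) (g : W ⟶ V) (g' : W ⟶ V') (m : Spec (.of Ω) ⟶ W.left),
      m ≫ g.left = l ∧ m ≫ g'.left = l' := by
  let V2 : Y.Etale := Scheme.Etale.mk (pullback.fst (vh V) (vh V') ≫ vh V)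
  refine ⟨V2, etHom (pullback.fst (vh V) (vh V')) rfl,
    etHom (pullback.snd (vh V) (vh V')) pullback.condition.symm,
    pullback.lift l l' (hl.trans hl'.symm), ?_, ?_⟩
  · exact pullback.lift_fst _ _ _
  · exact pullback.lift_snd _ _ _

/-- Classes with the same germ agree on a smaller neighbourhood. -/
theorem exists_of_gr_eq (n : ℕ) {V V' : Y.Etale} (l : Spec (.of Ω) ⟶ V.left)
    (hl : l ≫ vh V = ξ) (l' : Spec (.of Ω) ⟶ V'.left) (hl' : l' ≫ vh V' = ξ)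
    (x : HB f F (vh V) n) (x' : HB f F (vh V') n) (h : gr f F n l hl x = gr f F n l' hl' x') :
    ∃ (W : Y.Etale) (g : W ⟶ V) (g' : W ⟶ V') (m : Spec (.of Ω) ⟶ W.left),
      m ≫ g.left = l ∧ m ≫ g'.left = l' ∧
        rb f F g.left (vw g) n x = rb f F g'.left (vw g') n x' := by
  obtain ⟨W, g, g', m, hm, hm'⟩ := exists_common l hl l' hl'
  have hmW : m ≫ vh W = ξ := by rw [← vw g, ← Category.assoc, hm, hl]
  have h1 : gr f F n m hmW (rb f F g.left (vw g) n x - rb f F g'.left (vw g') n x') = 0 := by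
    rw [map_sub, gr_rb f F n g m hmW l hl hm, gr_rb f F n g' m hmW l' hl' hm', h, sub_self]
  obtain ⟨W', k, m', hk, h2⟩ := dies_of_gr_eq_zero f F n m hmW _ h1
  rw [map_sub, sub_eq_zero, rb_rb f F g.left (vw g) k.left (vw k) (k ≫ g).left rfl (vw (k ≫ g)),
    rb_rb f F g'.left (vw g') k.left (vw k) (k ≫ g').left rfl (vw (k ≫ g'))] at h2
  refine ⟨W', k ≫ g, k ≫ g', m', ?_, ?_, h2⟩
  · have e : (k ≫ g).left = k.left ≫ g.left := rfl
    rw [e, ← Category.assoc, hk, hm]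
  · have e : (k ≫ g').left = k.left ≫ g'.left := rfl
    rw [e, ← Category.assoc, hk, hm']

/-- Classes with the same germ have the same restriction to the fibre. -/
theorem rb_eq_of_gr_eq (n : ℕ) {V V' : Y.Etale} (l : Spec (.of Ω) ⟶ V.left)
    (hl : l ≫ vh V = ξ) (l' : Spec (.of Ω) ⟶ V'.left) (hl' : l' ≫ vh V' = ξ)
    (x : HB f F (vh V) n) (x' : HB f F (vh V') n) (h : gr f F n l hl x = gr f F n l' hl' x') :
    rb f F l hl n x = rb f F l' hl' n x' := by
  obtain ⟨W, g, g', m, hm, hm', e⟩ := exists_of_gr_eq f F n l hl l' hl' x x' h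
  have hmW : m ≫ vh W = ξ := by rw [← vw g, ← Category.assoc, hm, hl]
  rw [← rb_rb f F g.left (vw g) m hmW l hm hl, e,
    rb_rb f F g'.left (vw g') m hmW l' hm' hl']

theorem exists_stkH (n : ℕ) (σ : Stk ((EtCoh.Rpush f n).obj F) ξ) :
    ∃ y : HB f F ξ n, ∀ (V : Y.Etale) (l : Spec (.of Ω) ⟶ V.left) (hl : l ≫ vh V = ξ)
      (x : HB f F (vh V) n), gr f F n l hl x = σ → rb f F l hl n x = y := by
  obtain ⟨V, l, hl, x, rfl⟩ := exists_gr f F n σ
  exact ⟨rb f F l hl n x, fun V' l' hl' x' h => rb_eq_of_gr_eq f F n l' hl' l hl x' x h⟩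

variable (ξ) in
/-- The restriction of a germ of `R^n f_* F` to the fibre. -/
noncomputable def stkHFun (n : ℕ) (σ : Stk ((EtCoh.Rpush f n).obj F) ξ) : HB f F ξ n :=
  (exists_stkH f F n σ).choose

theorem stkHFun_gr (n : ℕ) {V : Y.Etale} (l : Spec (.of Ω) ⟶ V.left) (hl : l ≫ vh V = ξ)
    (x : HB f F (vh V) n) : stkHFun f F ξ n (gr f F n l hl x) = rb f F l hl n x :=
  ((exists_stkH f F n (gr f F n l hl x)).choose_spec V l hl x rfl).symm

theorem stkHFun_add (n : ℕ) (σ τ : Stk ((EtCoh.Rpush f n).obj F) ξ) :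
    stkHFun f F ξ n (σ + τ) = stkHFun f F ξ n σ + stkHFun f F ξ n τ := by
  obtain ⟨V, l, hl, x, rfl⟩ := exists_gr f F n σ
  obtain ⟨V', l', hl', x', rfl⟩ := exists_gr f F n τ
  obtain ⟨W, g, g', m, hm, hm'⟩ := exists_common l hl l' hl'
  have hmW : m ≫ vh W = ξ := by rw [← vw g, ← Category.assoc, hm, hl]
  rw [← gr_rb f F n g m hmW l hl hm, ← gr_rb f F n g' m hmW l' hl' hm', ← map_add,
    stkHFun_gr, stkHFun_gr, stkHFun_gr, map_add]

variable (ξ) in
/-- The restriction of a germ of `R^n f_* F` to the fibre, as a homomorphism. -/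
noncomputable def stkH (n : ℕ) : Stk ((EtCoh.Rpush f n).obj F) ξ →+ HB f F ξ n :=
  AddMonoidHom.mk' (stkHFun f F ξ n) (stkHFun_add f F n)

theorem stkH_gr (n : ℕ) {V : Y.Etale} (l : Spec (.of Ω) ⟶ V.left) (hl : l ≫ vh V = ξ)
    (x : HB f F (vh V) n) : stkH f F ξ n (gr f F n l hl x) = rb f F l hl n x :=
  stkHFun_gr f F n l hl x

variable {F} in
/-- Naturality in the sheaf. -/
theorem stk_map_gr {G : EtCoh.Ab X} (φ : F ⟶ G) (n : ℕ) {V : Y.Etale}
    (l : Spec (.of Ω) ⟶ V.left) (hl : l ≫ vh V = ξ) (x : HB f F (vh V) n) :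
    (EtCoh.stalk ξ).map ((EtCoh.Rpush f n).map φ) (gr f F n l hl x) =
      gr f G n l hl (map φ _ n x) := by
  rw [gr_apply, gr_apply, ← map_rs]
  exact stk_map_germ _ l hl _

variable {F} in
theorem stkH_map {G : EtCoh.Ab X} (φ : F ⟶ G) (n : ℕ) (σ : Stk ((EtCoh.Rpush f n).obj F) ξ) :
    stkH f G ξ n ((EtCoh.stalk ξ).map ((EtCoh.Rpush f n).map φ) σ) =
      map φ _ n (stkH f F ξ n σ) := by
  obtain ⟨V, l, hl, x, rfl⟩ := exists_gr f F n σ
  rw [stk_map_gr, stkH_gr, stkH_gr]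
  exact rb_map f φ l hl n x

end Germ

end Groth.Agent.Etdl.H425.HB
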