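import Groth.Agent.Sga4h.FamAdd
import Groth.Agent.Etrest.ModAb

/-!
# Functoriality of local families in the sheaf

* `fmap φ v` : image of the family `v : Fam F q` under `φ : F ⟶ G`;
* `fmap_fam`, `val_map`, `isLoc_fmap`, compatibility with restriction, sums, composition.
-/

set_option autoImplicit false
set_option backward.isDefEq.respectTransparency.types false
universe u

open CategoryTheory CategoryTheory.Limits AlgebraicGeometry Opposite

namespace Groth.Agent.Etdl.H425.FamMap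

open Groth.Agent.EtpbcB.Big Groth.Agent.Sga4h.FamAdd

variable {X Z Z' : Scheme.{u}} {F G H : EtCoh.Ab X} {q : Z ⟶ X} {q' : Z' ⟶ X}

/-- Image of a family of germs under a morphism of sheaves. -/
noncomputable def fmap (φ : F ⟶ G) (v : Fam F q) : Fam G q :=
  fun Ω _ _ l ξ h => (EtCoh.stalk ξ).map φ (v Ω l ξ h)

theorem fmap_apply (φ : F ⟶ G) (v : Fam F q) {Ω : Type u} [Field Ω] [IsSepClosed Ω]
    (l : Spec (.of Ω) ⟶ Z) (ξ : Spec (.of Ω) ⟶ X) (h : l ≫ q = ξ) :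
    fmap φ v Ω l ξ h = (EtCoh.stalk ξ).map φ (v Ω l ξ h) := rfl

theorem fmap_id (v : Fam F q) : fmap (𝟙 F) v = v := by
  ext Ω _ _ l ξ h
  rw [fmap_apply, CategoryTheory.Functor.map_id]
  rfl

theorem fmap_comp (φ : F ⟶ G) (ψ : G ⟶ H) (v : Fam F q) : fmap (φ ≫ ψ) v = fmap ψ (fmap φ v) := by
  ext Ω _ _ l ξ h
  rw [fmap_apply, CategoryTheory.Functor.map_comp]
  rfl

theorem fmap_res (φ : F ⟶ G) (v : Fam F q) (r : Z' ⟶ Z) (h : r ≫ q = q') :
    fmap φ (v.res r h) = (fmap φ v).res r h := rfl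

theorem fmap_add (φ : F ⟶ G) (v w : Fam F q) : fmap φ (v + w) = fmap φ v + fmap φ w := by
  ext Ω _ _ l ξ h
  exact map_add ((EtCoh.stalk ξ).map φ).hom _ _

theorem fmap_zero (φ : F ⟶ G) : fmap φ (0 : Fam F q) = 0 := by
  ext Ω _ _ l ξ h
  exact map_zero ((EtCoh.stalk ξ).map φ).hom

instance stalk_additive {Ω : Type u} [Field Ω] [IsSepClosed Ω] (ξ : Spec (.of Ω) ⟶ X) :
    (EtCoh.stalk ξ).Additive := by
  infer_instance

theorem add_fmap (φ ψ : F ⟶ G) (v : Fam F q) : fmap (φ + ψ) v = fmap φ v + fmap ψ v := by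
  ext Ω _ _ l ξ h
  rw [fmap_apply, Functor.map_add]
  rfl

theorem zero_fmap (v : Fam F q) : fmap (0 : F ⟶ G) v = 0 := by
  ext Ω _ _ l ξ h
  rw [fmap_apply, Functor.map_zero]
  rfl

theorem fmap_fam {V : X.Etale} (φ : F ⟶ G) (s : EtCoh.sect F V) :
    fmap φ (fam s) = fam (φ.hom.app (op V) s) := by
  ext Ω _ _ l ξ h
  rw [fmap_apply, fam_apply, fam_apply, stk_map_germ]

theorem isLoc_fmap (φ : F ⟶ G) {v : Fam F q} (hv : IsLoc v) : IsLoc (fmap φ v) := by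
  intro z
  obtain ⟨W, a, ha, w, V, b, hb, σ, hw, hσ⟩ := hv z
  refine ⟨W, a, ha, w, V, b, hb, φ.hom.app (op V) σ, hw, ?_⟩
  rw [← fmap_res, hσ, fmap_res, fmap_fam]

theorem castStk_map (φ : F ⟶ G) {Ω : Type u} [Field Ω] [IsSepClosed Ω] {ξ ξ' : Spec (.of Ω) ⟶ X}
    (h : ξ = ξ') (x : Stk F ξ) :
    castStk G h ((EtCoh.stalk ξ).map φ x) = (EtCoh.stalk ξ').map φ (castStk F h x) := by
  subst h
  rfl

theorem pullStk_inv_map {Y : Scheme.{u}} (q : Y ⟶ X) (φ : F ⟶ G) {Ω : Type u} [Field Ω] [IsSepClosed Ω]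
    (ζ : Spec (.of Ω) ⟶ Y) (x : Stk ((EtCoh.pull q).obj F) ζ) :
    (pullStk q G ζ).inv ((EtCoh.stalk ζ).map ((EtCoh.pull q).map φ) x) =
      (EtCoh.stalk (ζ ≫ q)).map φ ((pullStk q F ζ).inv x) :=
  ConcreteCategory.congr_hom ((Etbase.StalkPull.stalkPullIso q ζ).inv.naturality φ) x

/-- `val` is natural in the sheaf. -/
theorem val_map {Y : Scheme.{u}} (q : Y ⟶ X) (φ : F ⟶ G) {U : Y.Etale}
    (s : EtCoh.sect ((EtCoh.pull q).obj F) U) :
    val q G (((EtCoh.pull q).map φ).hom.app (op U) s) = fmap φ (val q F s) := by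
  ext Ω _ _ l ξ h
  rw [fmap_apply]
  unfold val
  rw [← stk_map_germ, pullStk_inv_map, castStk_map]

end Groth.Agent.Etdl.H425.FamMap
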