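import Groth.Agent.Etdl.H440.CFNat
import Groth.Agent.Etbase.EtGlue
import Groth.Agent.Sga4B.DirSum

/-!
# `w_! q^* M` for a finite disjoint union

`W = ⊔ W_i` (open immersions `h i : W_i ⟶ W`) implies `w_! q^* M = ⊕ w_i_! q_i^* M`.
-/

set_option autoImplicit false
set_option backward.isDefEq.respectTransparency.types false
universe u

open CategoryTheory CategoryTheory.Limits Opposite AlgebraicGeometry

namespace Groth.Agent.Etdl.H425.CFDecomp

open Groth.Agent.Etdl.H440.CF Groth.Agent.Sga4B.DirSum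

variable {P Y W₀ : Scheme.{u}} (q : W₀ ⟶ P) (w : W₀ ⟶ Y) [Etale w] {I : Type}
  {W : I → Scheme.{u}} (h : ∀ i, W i ⟶ W₀) [∀ i, IsOpenImmersion (h i)]
  (qi : ∀ i, W i ⟶ P) (wi : ∀ i, W i ⟶ Y) [∀ i, Etale (wi i)] (hw : ∀ i, h i ≫ w = wi i)
  (hq : ∀ i, h i ≫ q = qi i)

/-- The functor for the piece `W i`. -/
noncomputable abbrev piCF (i : I) : CF P Y := efCF (qi i) (wi i)

/-- The inclusion on the level of the étale sites. -/
noncomputable abbrev xa (i : I) (T : P.Etale) : (piCF qi wi i).v.obj T ⟶ (efCF q w).v.obj T :=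
  xApp (qi i) (wi i) q w (h i) (hw i) (hq i) T

theorem isPullback_xa (i : I) (T : P.Etale) :
    IsPullback (xa q w h qi wi hw hq i T).left (eW (qi i) (wi i) T) (eW q w T) (h i) := by
  have h1 : IsPullback ((xa q w h qi wi hw hq i T).left ≫ eT q w T) (eW (qi i) (wi i) T) T.hom
      (h i ≫ q) := by
    rw [xApp_eT (qi i) (wi i) q w (h i) (hw i) (hq i) T, hq i]
    exact isPullback_e (qi i) (wi i) T
  have h3 := isPullback_e q w T
  refine (IsPullback.of_bot h1.flip ?_ h3.flip).flip
  exact (xApp_eW (qi i) (wi i) q w (h i) (hw i) (hq i) T).symm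

theorem mem_range_xa (i : I) (T : P.Etale) (z : ((efCF q w).v.obj T).left) :
    z ∈ Set.range (xa q w h qi wi hw hq i T).left ↔ eW q w T z ∈ Set.range (h i) := by
  constructor
  · rintro ⟨y, rfl⟩
    refine ⟨eW (qi i) (wi i) T y, ?_⟩
    rw [← Scheme.Hom.comp_apply, ← Scheme.Hom.comp_apply, (isPullback_xa q w h qi wi hw hq i T).w]
  · rintro ⟨y, hy⟩
    obtain ⟨p, hp1, -⟩ := Scheme.Pullback.exists_preimage_pullback (f := eW q w T) (g := h i) z y
      hy.symm
    refine ⟨(isPullback_xa q w h qi wi hw hq i T).isoPullback.inv p, ?_⟩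
    rw [← Scheme.Hom.comp_apply, IsPullback.isoPullback_inv_fst]
    exact hp1

instance mono_xa (i : I) (T : P.Etale) : Mono (xa q w h qi wi hw hq i T) where
  right_cancellation {Z} a b hab := by
    have h0 : Mono (xa q w h qi wi hw hq i T).left := by
      rw [← (isPullback_xa q w h qi wi hw hq i T).isoPullback_hom_fst]
      infer_instance
    apply MorphismProperty.Over.Hom.ext
    rw [← cancel_mono (xa q w h qi wi hw hq i T).left]
    exact congrArg (fun k => k.left) hab

variable (hcov : ∀ z : W₀, ∃ i, z ∈ Set.range (h i))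
  (hdis : ∀ i j, i ≠ j → Disjoint (Set.range (h i)) (Set.range (h j)))

include hcov in
theorem iUnion_xa (T : P.Etale) : ⋃ i, Set.range (xa q w h qi wi hw hq i T).left = Set.univ := by
  ext z
  simp only [Set.mem_iUnion, Set.mem_univ, iff_true]
  obtain ⟨i, hi⟩ := hcov (eW q w T z)
  exact ⟨i, (mem_range_xa q w h qi wi hw hq i T z).2 hi⟩

include hdis in
theorem disjoint_xa (T : P.Etale) (i j : I) (hij : i ≠ j) :
    Disjoint (Set.range (xa q w h qi wi hw hq i T).left) (Set.range (xa q w h qi wi hw hq j T).left) := by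
  rw [Set.disjoint_left]
  intro z h1 h2
  exact Set.disjoint_left.1 (hdis i j hij) ((mem_range_xa q w h qi wi hw hq i T z).1 h1)
    ((mem_range_xa q w h qi wi hw hq j T z).1 h2)

variable {M : EtCoh.Ab P} {G : EtCoh.Ab Y}

section glue

variable (f : ∀ i, (piCF qi wi i).L.obj M ⟶ G)

include hcov hdis in
theorem exists_gl {T : P.Etale} (m : EtCoh.sect M T) :
    ∃ t : EtCoh.sect G ((efCF q w).v.obj T), ∀ i, G.obj.map (xa q w h qi wi hw hq i T).op t =
      (f i).hom.app (op ((piCF qi wi i).v.obj T)) ((piCF qi wi i).un m) :=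
  (Etbase.EtGlue.existsUnique_glue_disjoint G (fun i => xa q w h qi wi hw hq i T) (iUnion_xa q w h qi wi hw hq hcov T)
    (disjoint_xa q w h qi wi hw hq hdis T) _).exists

include hcov in
theorem gl_ext {T : P.Etale} {t t' : EtCoh.sect G ((efCF q w).v.obj T)}
    (e : ∀ i, G.obj.map (xa q w h qi wi hw hq i T).op t = G.obj.map (xa q w h qi wi hw hq i T).op t') : t = t' :=
  Etbase.EtGlue.ext_of_cover G (fun i => xa q w h qi wi hw hq i T) (iUnion_xa q w h qi wi hw hq hcov T) e

/-- The glued section. -/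
noncomputable def gl {T : P.Etale} (m : EtCoh.sect M T) : EtCoh.sect G ((efCF q w).v.obj T) :=
  (exists_gl q w h qi wi hw hq hcov hdis f m).choose

theorem map_gl {T : P.Etale} (m : EtCoh.sect M T) (i : I) :
    G.obj.map (xa q w h qi wi hw hq i T).op (gl q w h qi wi hw hq hcov hdis f m) =
      (f i).hom.app (op ((piCF qi wi i).v.obj T)) ((piCF qi wi i).un m) :=
  (exists_gl q w h qi wi hw hq hcov hdis f m).choose_spec i

theorem gl_add {T : P.Etale} (m m' : EtCoh.sect M T) :
    gl q w h qi wi hw hq hcov hdis f (m + m') = gl q w h qi wi hw hq hcov hdis f m + gl q w h qi wi hw hq hcov hdis f m' := by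
  apply gl_ext q w h qi wi hw hq hcov
  intro i
  have h1 : G.obj.map (xa q w h qi wi hw hq i T).op (gl q w h qi wi hw hq hcov hdis f m + gl q w h qi wi hw hq hcov hdis f m') =
      G.obj.map (xa q w h qi wi hw hq i T).op (gl q w h qi wi hw hq hcov hdis f m) +
        G.obj.map (xa q w h qi wi hw hq i T).op (gl q w h qi wi hw hq hcov hdis f m') :=
    map_add (G.obj.map (xa q w h qi wi hw hq i T).op).hom _ _
  rw [h1, map_gl, map_gl, map_gl, CF.un_add]
  exact map_add ((f i).hom.app (op ((piCF qi wi i).v.obj T))).hom _ _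

theorem xNT_naturality (i : I) {T T' : P.Etale} (g : T' ⟶ T) :
    xa q w h qi wi hw hq i T' ≫ (efCF q w).v.map g = (piCF qi wi i).v.map g ≫ xa q w h qi wi hw hq i T :=
  ((xNT (qi i) (wi i) q w (h i) (hw i) (hq i)).naturality g).symm

theorem et_mm (H : EtCoh.Ab Y) {A B C : Y.Etale} (a : B ⟶ A) (b : C ⟶ B) (s : EtCoh.sect H A) :
    H.obj.map b.op (H.obj.map a.op s) = H.obj.map (b ≫ a).op s := by
  have e : H.obj.map (b ≫ a).op = H.obj.map a.op ≫ H.obj.map b.op := by
    rw [op_comp, Functor.map_comp]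
  rw [e]
  rfl

theorem gl_res {T T' : P.Etale} (g : T' ⟶ T) (m : EtCoh.sect M T) :
    gl q w h qi wi hw hq hcov hdis f (M.obj.map g.op m) =
      G.obj.map ((efCF q w).v.map g).op (gl q w h qi wi hw hq hcov hdis f m) := by
  apply gl_ext q w h qi wi hw hq hcov
  intro i
  rw [map_gl, et_mm, xNT_naturality, ← et_mm, map_gl, CF.un_res]
  exact ConcreteCategory.congr_hom ((f i).hom.naturality ((piCF qi wi i).v.map g).op)
    ((piCF qi wi i).un m)

/-- The glued morphism. -/
noncomputable def glHom : (efCF q w).L.obj M ⟶ G :=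
  (efCF q w).desc ⟨{ app := fun T => AddCommGrpCat.ofHom (AddMonoidHom.mk'
                       (fun m => gl q w h qi wi hw hq hcov hdis f (T := T.unop) m)
                       (fun m m' => gl_add q w h qi wi hw hq hcov hdis f m m'))
                     naturality := fun T T' g => by
                       ext m
                       exact gl_res q w h qi wi hw hq hcov hdis f g.unop m }⟩

theorem glHom_un {T : P.Etale} (m : EtCoh.sect M T) :
    (glHom q w h qi wi hw hq hcov hdis f).hom.app (op ((efCF q w).v.obj T)) ((efCF q w).un m) =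
      gl q w h qi wi hw hq hcov hdis f m := (efCF q w).desc_un _ m

theorem xM_glHom (i : I) : xM (qi i) (wi i) q w (h i) (hw i) (hq i) M ≫ glHom q w h qi wi hw hq hcov hdis f =
    f i := by
  apply (piCF qi wi i).hom_ext
  intro T m
  refine (congrArg ((glHom q w h qi wi hw hq hcov hdis f).hom.app (op ((piCF qi wi i).v.obj T)))
    (xM_un (qi i) (wi i) q w (h i) (hw i) (hq i) M m)).trans ?_
  refine (ConcreteCategory.congr_hom ((glHom q w h qi wi hw hq hcov hdis f).hom.naturality
    (xa q w h qi wi hw hq i T).op) ((efCF q w).un m)).trans ?_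
  refine (congrArg (G.obj.map (xa q w h qi wi hw hq i T).op) (glHom_un q w h qi wi hw hq hcov hdis f m)).trans ?_
  exact map_gl q w h qi wi hw hq hcov hdis f m i

end glue

include hcov in
theorem hom_ext_xM {a b : (efCF q w).L.obj M ⟶ G}
    (e : ∀ i, xM (qi i) (wi i) q w (h i) (hw i) (hq i) M ≫ a =
      xM (qi i) (wi i) q w (h i) (hw i) (hq i) M ≫ b) : a = b := by
  apply (efCF q w).hom_ext
  intro T m
  apply gl_ext q w h qi wi hw hq hcov
  intro i
  have key : ∀ a : (efCF q w).L.obj M ⟶ G,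
      G.obj.map (xa q w h qi wi hw hq i T).op (a.hom.app (op ((efCF q w).v.obj T)) ((efCF q w).un m)) =
      (xM (qi i) (wi i) q w (h i) (hw i) (hq i) M ≫ a).hom.app (op ((piCF qi wi i).v.obj T))
        ((piCF qi wi i).un m) := by
    intro a
    refine (ConcreteCategory.congr_hom (a.hom.naturality (xa q w h qi wi hw hq i T).op)
      ((efCF q w).un m)).symm.trans ?_
    exact (congrArg (a.hom.app (op ((piCF qi wi i).v.obj T)))
      (xM_un (qi i) (wi i) q w (h i) (hw i) (hq i) M m)).symm
  rw [key, key, e]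

include hcov hdis in
/-- `w_! q^* M = ⊕ w_i_! q_i^* M`. -/
theorem isDS_xM [Fintype I] (M : EtCoh.Ab P) :
    IsDS (fun i => xM (qi i) (wi i) q w (h i) (hw i) (hq i) M) :=
  IsDS.of_existsUnique _ (fun _ f => ⟨glHom q w h qi wi hw hq hcov hdis f, fun i => xM_glHom q w h qi wi hw hq hcov hdis f i⟩)
    (fun _ _ _ e => hom_ext_xM q w h qi wi hw hq hcov e)

end Groth.Agent.Etdl.H425.CFDecomp
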