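import Groth.Agent.Etrest.ModAb

/-!
# Sheaves of `ℤ/n`-modules: the forgetful functor to abelian sheaves is fully faithful
-/

set_option autoImplicit false
universe u

open CategoryTheory CategoryTheory.Limits AlgebraicGeometry Opposite

namespace Groth.Agent.Etdl.H425.AbFull

open Groth.Agent.Etrest.ModAb

/-- An additive map between modules over `ULift (ZMod n)` is linear. -/
theorem map_smul_uzmod {n : ℕ} {M N : Type*} [AddCommGroup M] [AddCommGroup N]
    [Module (ULift.{u + 1} (ZMod n)) M] [Module (ULift.{u + 1} (ZMod n)) N] (φ : M →+ N)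
    (r : ULift.{u + 1} (ZMod n)) (x : M) : φ (r • x) = r • φ x := by
  obtain ⟨k, hk⟩ := ZMod.intCast_surjective r.down
  have h1 : r = (k : ULift.{u + 1} (ZMod n)) := by
    apply ULift.down_injective
    rw [← hk]
    rfl
  rw [h1, Int.cast_smul_eq_zsmul, Int.cast_smul_eq_zsmul, map_zsmul]

/-- An additive map as a linear map. -/
def toLin {n : ℕ} {M N : Type*} [AddCommGroup M] [AddCommGroup N]
    [Module (ULift.{u + 1} (ZMod n)) M] [Module (ULift.{u + 1} (ZMod n)) N] (φ : M →+ N) :
    M →ₗ[ULift.{u + 1} (ZMod n)] N where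
  toFun := φ
  map_add' := map_add φ
  map_smul' r x := map_smul_uzmod φ r x

instance full_fg (n : ℕ) : (fg (ULift.{u + 1} (ZMod n))).Full where
  map_surjective {M N} φ := ⟨ModuleCat.ofHom (toLin φ.hom), rfl⟩

instance full_ab (n : ℕ) (X : Scheme.{u}) : (ab (ULift.{u + 1} (ZMod n)) X).Full where
  map_surjective {F G} φ := by
    refine ⟨⟨{ app := fun U => ModuleCat.ofHom (toLin (φ.hom.app U).hom), naturality := ?_ }⟩, rfl⟩
    intro U V g
    apply (fg (ULift.{u + 1} (ZMod n))).map_injective
    exact φ.hom.naturality g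

end Groth.Agent.Etdl.H425.AbFull
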