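import Mathlib.CategoryTheory.Adjunction.FullyFaithful
import Mathlib.CategoryTheory.Adjunction.Basic

/-!
# An abstract adjunction

Let `Q ⊣ P` with `P : A ⥤ B` fully faithful, and `ι : Γ ⟶ 𝟭 B` such that `Hom(P G, Γ F) → Hom(P G, F)` is bijective and
the unit `Γ F ⟶ P Q Γ F` is an isomorphism. Then `P ⊣ Γ ⋙ Q`, and `Γ` is right adjoint to `Q ⋙ P`.
-/

set_option autoImplicit false
universe v₁ v₂ u₁ u₂
open CategoryTheory

namespace Groth.Agent.Etdl.H425.AbsAdj

variable {A : Type u₁} {B : Type u₂} [Category.{v₁} A] [Category.{v₂} B] {P : A ⥤ B} {Q : B ⥤ A}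
  (adj : Q ⊣ P) [P.Full] [P.Faithful] {Γ : B ⥤ B} (ι : Γ ⟶ 𝟭 B)
  (h1 : ∀ (G : A) (F : B), Function.Bijective (fun (ψ : P.obj G ⟶ Γ.obj F) => ψ ≫ ι.app F))
  (h2 : ∀ F : B, IsIso (adj.unit.app (Γ.obj F)))

/-- The lift of a map `P G ⟶ F` to `Γ F`. -/
noncomputable def lft {G : A} {F : B} (φ : P.obj G ⟶ F) : P.obj G ⟶ Γ.obj F :=
  (Equiv.ofBijective _ (h1 G F)).symm φ

omit [P.Full] [P.Faithful] in
theorem lft_ι {G : A} {F : B} (φ : P.obj G ⟶ F) : lft ι h1 φ ≫ ι.app F = φ :=
  (Equiv.ofBijective _ (h1 G F)).apply_symm_apply φ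

omit [P.Full] [P.Faithful] in
theorem lft_eq {G : A} {F : B} (ψ : P.obj G ⟶ Γ.obj F) : lft ι h1 (ψ ≫ ι.app F) = ψ :=
  (Equiv.ofBijective _ (h1 G F)).symm_apply_apply ψ

/-- The isomorphism `Γ ⋙ Q ⋙ P ≅ Γ`. -/
noncomputable def isoΓ : Γ ⋙ Q ⋙ P ≅ Γ :=
  have := h2
  (NatIso.ofComponents (fun F => asIso (adj.unit.app (Γ.obj F)))
    (fun f => adj.unit.naturality (Γ.map f))).symm

omit [P.Full] [P.Faithful] in
theorem isoΓ_inv_app (F : B) : (isoΓ adj h2).inv.app F = adj.unit.app (Γ.obj F) := rfl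

/-- The adjunction `P ⊣ Γ ⋙ Q`. -/
noncomputable def adjunction : P ⊣ Γ ⋙ Q :=
  Adjunction.mkOfHomEquiv
    { homEquiv := fun G F =>
        { toFun := fun φ => P.preimage (lft ι h1 φ ≫ (isoΓ adj h2).inv.app F)
          invFun := fun ψ => P.map ψ ≫ (isoΓ adj h2).hom.app F ≫ ι.app F
          left_inv := fun φ => by
            dsimp only
            rw [Functor.map_preimage, Category.assoc, Iso.inv_hom_id_app_assoc, lft_ι]
          right_inv := fun ψ => by
            dsimp only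
            apply P.map_injective
            rw [Functor.map_preimage, ← Category.assoc, lft_eq, Category.assoc, Iso.hom_inv_id_app]
            exact Category.comp_id _ }
      homEquiv_naturality_left_symm := fun f g => by
        dsimp only [Equiv.coe_fn_symm_mk]
        rw [Functor.map_comp, Category.assoc]
      homEquiv_naturality_right := fun {G F F'} f g => by
        dsimp only [Equiv.coe_fn_mk]
        apply P.map_injective
        rw [Functor.map_preimage, Functor.map_comp, Functor.map_preimage, Category.assoc]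
        have h3 : P.map ((Γ ⋙ Q).map g) = (Γ ⋙ Q ⋙ P).map g := rfl
        rw [h3, ← (isoΓ adj h2).inv.naturality g, ← Category.assoc]
        congr 1
        apply (h1 G F').1
        dsimp only
        rw [lft_ι, Category.assoc, ι.naturality, ← Category.assoc, lft_ι]
        rfl }

/-- `Γ` is right adjoint to `Q ⋙ P`. -/
noncomputable def adjunction' : Q ⋙ P ⊣ Γ :=
  (adj.comp (adjunction adj ι h1 h2)).ofNatIsoRight ((Functor.associator _ _ _) ≪≫ isoΓ adj h2)

end Groth.Agent.Etdl.H425.AbsAdj
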