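import Groth.Agent.Etcore.HQ

/-!
# Classes attached to elements of `Ext^n(P, F)`, `P` a sheaf with a section `p` over `W`

`chi p k F n : Ext P F n →+ H^n(Z, q⁻¹F)` for `k : Z ⟶ W`, `q = k ≫ W.hom`: pull back and compose with
the class of `p`.  Compatibilities: `res_chi`, `chi_precomp`, `chi_map`, `chi_δ`, `chi_zero`;
`chi_bijective`: it is bijective if `p` generates `P` and `k` is an isomorphism.
-/

set_option autoImplicit false
universe u
open CategoryTheory CategoryTheory.Limits AlgebraicGeometry Opposite Abelian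
open scoped Groth.Agent.Etcore.EtInst
open Groth.Agent.Etcore.EtInst

namespace Groth.Agent.Etdl.H425.Chi

open Groth.Agent.Etcore.HpullCalc Groth.Agent.Etcore.PullCoh Groth.Agent.Etcore.HQ

attribute [local instance] Groth.Agent.Etcore.HQ.pfl

variable {X : Scheme.{u}} {P F G : EtCoh.Ab X}

/-- Product of a class with coefficients in `P` with an element of `Ext^n(P, F)`. -/
noncomputable def yo {Z : Scheme.{u}} (q : Z ⟶ X) {m n k : ℕ} (x : HQ P q m)
    (e : Ext.{u + 1} P F n) (h : m + n = k) : HQ F q k :=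
  Ext.comp x (e.mapExactFunctor (EtCoh.pull q)) h

theorem yo_add {Z : Scheme.{u}} (q : Z ⟶ X) {m n k : ℕ} (x : HQ P q m)
    (e e' : Ext.{u + 1} P F n) (h : m + n = k) :
    yo q x (e + e') h = yo q x e h + yo q x e' h := by
  unfold yo
  rw [Ext.mapExactFunctor_add, Ext.comp_add]

theorem yo_zero {Z : Scheme.{u}} (q : Z ⟶ X) {m n k : ℕ} (x : HQ P q m)
    (h : m + n = k) : yo q x (0 : Ext.{u + 1} P F n) h = 0 := by
  unfold yo
  rw [Ext.mapExactFunctor_zero, Ext.comp_zero]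

theorem th_ext {Z Z' : Scheme.{u}} {q : Z ⟶ X} {q' : Z' ⟶ X} (j : Z' ⟶ Z) (h : j ≫ q = q')
    {n : ℕ} (e : Ext.{u + 1} P F n) :
    Ext.comp ((e.mapExactFunctor (EtCoh.pull q)).mapExactFunctor (EtCoh.pull j))
      (Ext.mk₀ (th j q q' h F)) (add_zero n) =
    Ext.comp (Ext.mk₀ (th j q q' h P)) (e.mapExactFunctor (EtCoh.pull q')) (zero_add n) := by
  have i1 : PreservesFiniteLimits (EtCoh.pull q ⋙ EtCoh.pull j) := comp_preservesFiniteLimits _ _
  have i2 : PreservesFiniteColimits (EtCoh.pull q ⋙ EtCoh.pull j) :=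
    comp_preservesFiniteColimits _ _
  have h1 := Groth.Agent.Etcore.ExtAdj.mapExactFunctor_nat (F := EtCoh.pull q ⋙ EtCoh.pull j)
    (G := EtCoh.pull q') (theta j q q' h).hom e
  rw [Groth.Agent.Etcore.ExtAdj.mapExactFunctor_compFunctor] at h1
  exact h1

theorem res_yo {Z Z' : Scheme.{u}} {q : Z ⟶ X} {q' : Z' ⟶ X} (j : Z' ⟶ Z) (h : j ≫ q = q')
    {m n k : ℕ} (x : HQ P q m) (e : Ext.{u + 1} P F n) (hk : m + n = k) :
    res F j h k (yo q x e hk) = yo q' (res P j h m x) e hk := by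
  rw [res_apply, res_apply]
  have h1 : hp j ((EtCoh.pull q).obj F) k (yo q x e hk) =
      Ext.comp (hp j ((EtCoh.pull q).obj P) m x)
        ((e.mapExactFunctor (EtCoh.pull q)).mapExactFunctor (EtCoh.pull j)) hk :=
    Groth.Agent.Etcore.ExtMap.extMap_comp (EtCoh.pull j) (EtCore.pullConst j ℤ).inv hk x
      (e.mapExactFunctor (EtCoh.pull q))
  refine (congrArg (fun y => HHmap (th j q q' h F) k y) h1).trans ?_
  unfold yo
  rw [HHmap_apply, HHmap_apply, Ext.comp_assoc_of_third_deg_zero, th_ext j h e,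
    Ext.comp_assoc_of_second_deg_zero]

variable {W : X.Etale} (p : EtCoh.sect P W)

/-- The class attached to an element of `Ext^n(P, F)` and a section of `P`. -/
noncomputable def chi {Z : Scheme.{u}} {q : Z ⟶ X} (k : Z ⟶ W.left) (hk : k ≫ W.hom = q)
    (F : EtCoh.Ab X) (n : ℕ) : Ext.{u + 1} P F n →+ HQ F q n where
  toFun e := yo q (sec P q k hk p) e (zero_add n)
  map_zero' := yo_zero q _ _
  map_add' e e' := yo_add q _ e e' _

theorem chi_apply {Z : Scheme.{u}} {q : Z ⟶ X} (k : Z ⟶ W.left) (hk : k ≫ W.hom = q) (n : ℕ)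
    (e : Ext.{u + 1} P F n) : chi p k hk F n e = yo q (sec P q k hk p) e (zero_add n) := rfl

/-- Restriction. -/
theorem res_chi {Z Z' : Scheme.{u}} {q : Z ⟶ X} {q' : Z' ⟶ X} (k : Z ⟶ W.left)
    (hk : k ≫ W.hom = q) (j : Z' ⟶ Z) (h : j ≫ q = q') (k' : Z' ⟶ W.left)
    (hk' : k' ≫ W.hom = q') (e : j ≫ k = k') (n : ℕ) (x : Ext.{u + 1} P F n) :
    res F j h n (chi p k hk F n x) = chi p k' hk' F n x := by
  rw [chi_apply, res_yo, res_sec P j h k hk k' hk' e, chi_apply]

theorem yo_mk₀_comp {P' : EtCoh.Ab X} (a : P' ⟶ P) {Z : Scheme.{u}} (q : Z ⟶ X) {m n k : ℕ}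
    (x : HQ P' q m) (e : Ext.{u + 1} P F n) (hk : m + n = k) :
    yo q x ((Ext.mk₀ a).comp e (zero_add n)) hk = yo q (map a q m x) e hk := by
  unfold yo
  rw [Ext.mapExactFunctor_comp, Ext.mapExactFunctor_mk₀, map_apply, HHmap_apply,
    Ext.comp_assoc_of_second_deg_zero]

/-- Precomposition. -/
theorem chi_precomp {P' : EtCoh.Ab X} {W' : X.Etale} (p' : EtCoh.sect P' W') (a : P' ⟶ P)
    (g : W' ⟶ W) (ha : a.hom.app (op W') p' = P.obj.map g.op p) {Z : Scheme.{u}} {q : Z ⟶ X}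
    (k' : Z ⟶ W'.left) (hk' : k' ≫ W'.hom = q) (k : Z ⟶ W.left) (hk : k ≫ W.hom = q)
    (e : k' ≫ g.left = k) (n : ℕ) (x : Ext.{u + 1} P F n) :
    chi p' k' hk' F n ((Ext.mk₀ a).comp x (zero_add n)) = chi p k hk F n x := by
  rw [chi_apply, yo_mk₀_comp, map_sec, ha, sec_res P q k' hk' g k hk e, chi_apply]

/-- Naturality in the sheaf. -/
theorem chi_map (φ : F ⟶ G) {Z : Scheme.{u}} {q : Z ⟶ X} (k : Z ⟶ W.left)
    (hk : k ≫ W.hom = q) (n : ℕ) (x : Ext.{u + 1} P F n) :
    chi p k hk G n (x.comp (Ext.mk₀ φ) (add_zero n)) = map φ q n (chi p k hk F n x) := by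
  rw [chi_apply, chi_apply, map_apply, HHmap_apply]
  unfold yo
  rw [Ext.mapExactFunctor_comp, Ext.mapExactFunctor_mk₀, Ext.comp_assoc_of_third_deg_zero]

/-- Degree zero. -/
theorem chi_zero {Z : Scheme.{u}} {q : Z ⟶ X} (k : Z ⟶ W.left) (hk : k ≫ W.hom = q)
    (φ : P ⟶ F) : chi p k hk F 0 (Ext.mk₀ φ) = sec F q k hk (φ.hom.app (op W) p) := by
  rw [← map_sec, chi_apply, map_apply, HHmap_apply]
  unfold yo
  rw [Ext.mapExactFunctor_mk₀]

/-- Connecting maps. -/
theorem chi_δ {S : ShortComplex (EtCoh.Ab X)} (hS : S.ShortExact) {Z : Scheme.{u}} {q : Z ⟶ X}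
    (k : Z ⟶ W.left) (hk : k ≫ W.hom = q) (n : ℕ) (x : Ext.{u + 1} P S.X₃ n) :
    chi p k hk S.X₁ (n + 1) (x.comp hS.extClass rfl) = δ hS q n (chi p k hk S.X₃ n x) := by
  rw [chi_apply, chi_apply, δ_apply]
  unfold yo
  rw [Ext.mapExactFunctor_comp, Ext.mapExactFunctor_extClass]
  exact (Ext.comp_assoc _ _ _ (zero_add n) rfl (by omega)).symm

/-- `chi` is bijective for a generating pair and an isomorphism. -/
theorem chi_bijective (hp : ∀ G : EtCoh.Ab X, Function.Bijective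
      (fun φ : P ⟶ G => (φ.hom.app (op W) p : EtCoh.sect G W))) (F : EtCoh.Ab X) (n : ℕ) :
    Function.Bijective (chi p (𝟙 W.left) (Category.id_comp W.hom) F n) := by
  induction n generalizing F with
  | zero =>
    have h1 : ⇑(chi p (𝟙 W.left) (Category.id_comp W.hom) F 0) =
        (fun s : EtCoh.sect F W => sec F W.hom (𝟙 W.left) (Category.id_comp _) s) ∘
          (fun φ : P ⟶ F => (φ.hom.app (op W) p : EtCoh.sect F W)) ∘
            (Ext.homEquiv₀ : Ext.{u + 1} P F 0 ≃ (P ⟶ F)) := by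
      funext x
      obtain ⟨φ, rfl⟩ := (Ext.mk₀_bijective P F).2 x
      have h2 : Ext.homEquiv₀ (Ext.mk₀ φ) = φ :=
        (Ext.homEquiv₀ : Ext.{u + 1} P F 0 ≃ (P ⟶ F)).apply_symm_apply φ
      simp only [Function.comp_apply, h2]
      exact chi_zero p _ _ φ
    rw [h1]
    exact (sec_bijective F W).comp ((hp F).comp (Equiv.bijective _))
  | succ n ih =>
    have : Etale W.hom := W.prop
    let S : ShortComplex (EtCoh.Ab X) :=
      ShortComplex.mk (Injective.ι F) (cokernel.π (Injective.ι F)) (cokernel.condition _)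
    have hS : S.ShortExact :=
      { exact := ShortComplex.exact_of_g_is_cokernel _ (cokernelIsCokernel _)
        mono_f := inferInstanceAs (Mono (Injective.ι F))
        epi_g := inferInstanceAs (Epi (cokernel.π (Injective.ι F))) }
    have hI : Injective S.X₂ := inferInstanceAs (Injective (Injective.under F))
    constructor
    · rw [injective_iff_map_eq_zero]
      intro x hx
      obtain ⟨y, rfl⟩ := Ext.covariant_sequence_exact₁ P hS x (Ext.eq_zero_of_injective _)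
        (rfl : n + 1 = n + 1)
      have h1 : δ hS W.hom n (chi p (𝟙 W.left) (Category.id_comp W.hom) S.X₃ n y) = 0 :=
        (chi_δ p hS _ _ n y).symm.trans hx
      obtain ⟨z, hz⟩ := exists_map_eq hS W.hom n _ h1
      obtain ⟨z', rfl⟩ := (ih S.X₂).2 z
      have h2 : z'.comp (Ext.mk₀ S.g) (add_zero n) = y :=
        (ih S.X₃).1 ((chi_map p S.g _ _ n z').trans hz)
      rw [← h2, Ext.comp_assoc_of_second_deg_zero, hS.comp_extClass, Ext.comp_zero]
    · intro y
      obtain ⟨z, hz⟩ := exists_δ_eq hS W.hom n y (eq_zero_of_injective S.X₂ W.hom n _)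
      obtain ⟨z', rfl⟩ := (ih S.X₃).2 z
      exact ⟨z'.comp hS.extClass rfl, (chi_δ p hS _ _ n z').trans hz⟩

end Groth.Agent.Etdl.H425.Chi
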