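import Groth.Agent.Etdl.H425.SecSupp
import Groth.Agent.CohtopB.RDPComp
import Mathlib.AlgebraicGeometry.Morphisms.Separated
import Mathlib.AlgebraicGeometry.Morphisms.Proper

/-!
# Open and closed immersions: `j_! = j_*`, and `Rf_!` for a closed immersion

* `extZeroPushIso`: for a closed and open immersion `i`, `extZeroMod Λ i ≅ push Λ i`.
* `nonempty_RshriekPlusIso`: for a compactification `c` of a closed immersion `i`,
  `RshriekPlus Λ c ≅ pushPlus Λ i`.
* `nonempty_secPullPlusIso`: `secSuppPlus Λ j ⋙ pullPlus Λ i ≅ (secSuppMod Λ j ⋙ pull Λ i).rightDerivedFunctorPlus`.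
-/

set_option autoImplicit false
universe u
open CategoryTheory CategoryTheory.Limits AlgebraicGeometry Opposite
attribute [local instance] HasDerivedCategory.standard

namespace Groth.Agent.Etdl.H425.Clopen

open Groth.Agent.Etdl.H425.ClosedMod Groth.Agent.Etdl.H425.SecSupp EtDl EtShriek

variable (Λ : Type (u + 1)) [CommRing Λ]

section

variable {Z X U : Scheme.{u}} (i : Z ⟶ X) [IsOpenImmersion i] (j : U ⟶ X) (hij : Set.range j.base = (Set.range i.base)ᶜ)

/-- For `i` an open immersion onto the complement of the image of `j`, `i^* Γ_Z = i^{-1}`. -/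
noncomputable def secPullIso : secSuppMod Λ j ⋙ EtModW.pull Λ i ≅ restrMod Λ i :=
  have := isIso_restr_secι Λ i j hij
  Functor.isoWhiskerLeft (secSuppMod Λ j) (restrPullIso Λ i).symm ≪≫
    NatIso.ofComponents (fun F => asIso ((restrMod Λ i).map ((secι Λ j).app F)))
      (fun f => by
        have h := congrArg (restrMod Λ i).map ((secι Λ j).naturality f)
        rw [Functor.map_comp, Functor.map_comp] at h
        exact h)

end

/-- For a closed and open immersion `i`, `i_! = i_*`. -/
noncomputable def extZeroPushIso {Z X : Scheme.{u}} (i : Z ⟶ X) [IsOpenImmersion i] [IsClosedImmersion i] :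
    extZeroMod Λ i ≅ EtModW.push Λ i :=
  let V : X.Opens := ⟨(Set.range i.base)ᶜ, i.isClosedEmbedding.isClosed_range.isOpen_compl⟩
  have hV : Set.range V.ι.base = (Set.range i.base)ᶜ := Scheme.Opens.range_ι V
  (extZeroModAdj Λ i).leftAdjointUniq ((pushSecAdj Λ i V.ι hV).ofNatIsoRight (secPullIso Λ i V.ι hV))

/-- Direct image preserves injectives. -/
theorem injective_push {X Y : Scheme.{u}} (f : X ⟶ Y) (I : EtModW.Mod Λ X) (hI : Injective I) :
    Injective ((EtModW.push Λ f).obj I) := by
  have h1 : PreservesFiniteLimits (EtModW.pull Λ f) :=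
    Groth.Agent.Etrest.ModCons.preservesFiniteLimits_pull f
  have h4 : (EtModW.pull Λ f).PreservesMonomorphisms := inferInstance
  exact (pullPushModAdj Λ f).map_injective I hI

theorem isClosedImmersion_compactification {Z X : Scheme.{u}} {i : Z ⟶ X} [IsClosedImmersion i]
    (c : DEt.Compactification i) : IsClosedImmersion c.j := by
  have h : IsClosedImmersion (c.j ≫ c.fbar) := by rw [c.fac]; infer_instance
  exact IsClosedImmersion.of_comp c.j c.fbar

/-- `i_* = fbar_* ∘ j_!` for a compactification of a closed immersion. -/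
noncomputable def extZeroCompPushIso {Z X : Scheme.{u}} {i : Z ⟶ X} [IsClosedImmersion i]
    (c : DEt.Compactification i) : extZeroMod Λ c.j ⋙ EtModW.push Λ c.fbar ≅ EtModW.push Λ i :=
  have := isClosedImmersion_compactification c
  Functor.isoWhiskerRight (extZeroPushIso Λ c.j) (EtModW.push Λ c.fbar) ≪≫
    Groth.Agent.Etcore.LPullComp.pushComp Λ c.fbar c.j ≪≫
    Groth.Agent.Etcore.LPullComp.pushCongr Λ c.fac

theorem nonempty_RshriekPlusIso {Z X : Scheme.{u}} {i : Z ⟶ X} [IsClosedImmersion i]
    (c : DEt.Compactification i) : Nonempty (RshriekPlus Λ c ≅ pushPlus Λ i) := by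
  have := isClosedImmersion_compactification c
  refine Groth.Agent.CohtopB.RDPComp.nonempty_iso (extZeroMod Λ c.j) (EtModW.push Λ c.fbar) (EtModW.push Λ i)
    (extZeroCompPushIso Λ c) ?_
  intro I hI
  exact Injective.of_iso ((extZeroPushIso Λ c.j).app I).symm (injective_push Λ c.j I hI)

theorem nonempty_secPullPlusIso {Z X U : Scheme.{u}} (i : Z ⟶ X) [IsClosedImmersion i] (j : U ⟶ X)
    [IsOpenImmersion j] (hij : Set.range j.base = (Set.range i.base)ᶜ) :
    Nonempty (secSuppPlus Λ j ⋙ pullPlus Λ i ≅ (secSuppMod Λ j ⋙ EtModW.pull Λ i).rightDerivedFunctorPlus) :=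
  Groth.Agent.CohtopB.RDPComp.nonempty_iso (secSuppMod Λ j) (EtModW.pull Λ i) _ (Iso.refl _)
    (injective_secSupp Λ i j hij)

end Groth.Agent.Etdl.H425.Clopen
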