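import Groth.Agent.Etdl.H425.PbcEl

/-!
# Lemma L: the family of germs of `R^n f_* F` attached to a class over `T ×_Y X` is local

`f : X ⟶ Y` proper, `F` torsion.
* `stkHe` : `(R^n f_* F)_ξ ≃+ H^n(X_ξ, F)`;
* `famH t u` for ANY `t : T ⟶ Y`, `u ∈ H^n(T ×_Y X, F)`: the family of germs
  `x ↦ stkHe.symm (u|x)`; `famH_res`, `famH_rs`, and `isLoc_famH`.
-/

set_option autoImplicit false
universe u
open CategoryTheory CategoryTheory.Limits AlgebraicGeometry Opposite Abelian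
open scoped Groth.Agent.Etcore.EtInst
open Groth.Agent.Etcore.EtInst

namespace Groth.Agent.Etdl.H425.ClsLoc

open Groth.Agent.Etcore.HQ Groth.Agent.Etdl.H425.HB Groth.Agent.EtpbcB.Big

section Point

variable {X Y : Scheme.{u}} (f : X ⟶ Y) [IsProper f] (F : EtCoh.Ab X) (hF : EtCoh.IsTorsion F)
  (n : ℕ) {Ω : Type u} [Field Ω] [IsSepClosed Ω] {ξ : Spec (.of Ω) ⟶ Y}

include hF in
theorem gr_eq_zero {V : Y.Etale} (l : Spec (.of Ω) ⟶ V.left) (hl : l ≫ vh V = ξ)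
    (x : HB f F (vh V) n) (hx : rb f F l hl n x = 0) : gr f F n l hl x = 0 := by
  subst hl
  obtain ⟨V', m, hm, h⟩ := PbcEl.dies f F hF n (vh V) x l hx
  let W : Y.Etale := Scheme.Etale.mk (vh V' ≫ vh V)
  let g : W ⟶ V := etHom (vh V') rfl
  have h1 : rb f F g.left (vw g) n x = 0 := h
  have hmW : m ≫ vh W = l ≫ vh V := by
    have e1 : m ≫ vh W = (m ≫ vh V') ≫ vh V := (Category.assoc _ _ _).symm
    exact e1.trans (congrArg (· ≫ vh V) hm)
  rw [← gr_rb f F n g m hmW l rfl hm x, h1, map_zero]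

include hF in
theorem stkH_injective : Function.Injective (stkH f F ξ n) := by
  rw [injective_iff_map_eq_zero]
  intro σ hσ
  obtain ⟨V, l, hl, x, rfl⟩ := exists_gr f F n σ
  rw [stkH_gr] at hσ
  exact gr_eq_zero f F hF n l hl x hσ

include hF in
theorem stkH_surjective : Function.Surjective (stkH f F ξ n) := by
  intro e
  obtain ⟨V, l, hl, x, rfl⟩ := PbcEl.exists_ext f F hF n e
  exact ⟨gr f F n l hl x, stkH_gr f F n l hl x⟩

variable (ξ) in
/-- `(R^n f_* F)_ξ ≃+ H^n(X_ξ, F)`. -/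
noncomputable def stkHe : Stk ((EtCoh.Rpush f n).obj F) ξ ≃+ HB f F ξ n :=
  AddEquiv.ofBijective (stkH f F ξ n) ⟨stkH_injective f F hF n, stkH_surjective f F hF n⟩

theorem stkHe_apply (σ : Stk ((EtCoh.Rpush f n).obj F) ξ) :
    stkHe f F hF n ξ σ = stkH f F ξ n σ := rfl

theorem stkHe_symm (e : HB f F ξ n) : stkH f F ξ n ((stkHe f F hF n ξ).symm e) = e :=
  (stkHe f F hF n ξ).apply_symm_apply e

theorem stkHe_gr {V : Y.Etale} (l : Spec (.of Ω) ⟶ V.left) (hl : l ≫ vh V = ξ)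
    (x : HB f F (vh V) n) : (stkHe f F hF n ξ).symm (rb f F l hl n x) = gr f F n l hl x :=
  stkH_injective f F hF n ((stkHe_symm f F hF n _).trans (stkH_gr f F n l hl x).symm)

end Point

section Fam

variable {X Y : Scheme.{u}} (f : X ⟶ Y) [IsProper f] (F : EtCoh.Ab X) (hF : EtCoh.IsTorsion F)
  (n : ℕ)

/-- The family of germs attached to a class over `T ×_Y X`. -/
noncomputable def famH {T : Scheme.{u}} (t : T ⟶ Y) (u : HB f F t n) :
    Fam ((EtCoh.Rpush f n).obj F) t :=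
  fun _ _ _ l ξ hl => (stkHe f F hF n ξ).symm (rb f F l hl n u)

theorem famH_apply {T : Scheme.{u}} (t : T ⟶ Y) (u : HB f F t n) {Ω : Type u} [Field Ω]
    [IsSepClosed Ω] (l : Spec (.of Ω) ⟶ T) (ξ : Spec (.of Ω) ⟶ Y) (hl : l ≫ t = ξ) :
    famH f F hF n t u Ω l ξ hl = (stkHe f F hF n ξ).symm (rb f F l hl n u) := rfl

theorem stkH_famH {T : Scheme.{u}} (t : T ⟶ Y) (u : HB f F t n) {Ω : Type u} [Field Ω]
    [IsSepClosed Ω] (l : Spec (.of Ω) ⟶ T) (ξ : Spec (.of Ω) ⟶ Y) (hl : l ≫ t = ξ) :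
    stkH f F ξ n (famH f F hF n t u Ω l ξ hl) = rb f F l hl n u :=
  stkHe_symm f F hF n _

theorem famH_res {T T' : Scheme.{u}} {t : T ⟶ Y} {t' : T' ⟶ Y} (r : T' ⟶ T) (h : r ≫ t = t')
    (u : HB f F t n) : (famH f F hF n t u).res r h = famH f F hF n t' (rb f F r h n u) := by
  ext Ω _ _ l ξ hl
  rw [Fam.res_apply, famH_apply, famH_apply, rb_rb f F r h l hl (l ≫ r) rfl]

theorem famH_rs (V : Y.Etale) (x : HB f F (vh V) n) :
    famH f F hF n (vh V) x = fam (rs f F n V x) := by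
  ext Ω _ _ l ξ hl
  rw [famH_apply, stkHe_gr]
  rfl

theorem res_fam_rs (V : Y.Etale) (x : HB f F (vh V) n) {T : Scheme.{u}} {t : T ⟶ Y}
    (k : T ⟶ V.left) (hk : k ≫ V.hom = t) :
    (fam (rs f F n V x)).res k hk = famH f F hF n t (rb f F k hk n x) :=
  (congrArg (fun v : Fam ((EtCoh.Rpush f n).obj F) V.hom => v.res k hk)
    (famH_rs f F hF n V x)).symm.trans (famH_res f F hF n k hk x)

/-- **Lemma L.** -/
theorem isLoc_famH {T : Scheme.{u}} (t : T ⟶ Y) (u : HB f F t n) : IsLoc (famH f F hF n t u) := by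
  intro z
  obtain ⟨Ω, _, _, x, hx⟩ := exists_geomPoint T z
  obtain ⟨V, l, hl, δ, hδ⟩ := PbcEl.exists_ext f F hF n (rb f F x (rfl : x ≫ t = x ≫ t) n u)
  let p1 : pullback t (vh V) ⟶ T := pullback.fst t (vh V)
  let p2 : pullback t (vh V) ⟶ V.left := pullback.snd t (vh V)
  have hp : p2 ≫ vh V = p1 ≫ t := pullback.condition.symm
  let x' : Spec (.of Ω) ⟶ pullback t (vh V) := pullback.lift x l hl.symm
  have hx1 : x' ≫ p1 = x := pullback.lift_fst _ _ _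
  have hx2 : x' ≫ p2 = l := pullback.lift_snd _ _ _
  have hx3 : x ≫ t = x' ≫ p1 ≫ t := by rw [← Category.assoc, hx1]
  have h1 : rb f F x' rfl n (rb f F p1 rfl n u - rb f F p2 hp n δ) = 0 := by
    rw [map_sub, rb_rb f F p1 rfl x' rfl x hx1 hx3, rb_rb f F p2 hp x' rfl l hx2 (hl.trans hx3)]
    have h2 : ∀ (ζ : Spec (.of Ω) ⟶ Y) (e : x ≫ t = ζ) (e' : l ≫ vh V = ζ),
        rb f F x e n u - rb f F l e' n δ = 0 := by
      intro ζ e e'
      subst e
      rw [sub_eq_zero]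
      exact hδ.symm
    exact h2 _ hx3 _
  obtain ⟨V', m, hm, h2⟩ := PbcEl.dies f F hF n (p1 ≫ t) _ x' h1
  rw [map_sub, sub_eq_zero, rb_rb f F p1 rfl (vh V') rfl (vh V' ≫ p1) rfl
      (Category.assoc _ _ _), rb_rb f F p2 hp (vh V') rfl (vh V' ≫ p2) rfl
      ((Category.assoc _ _ _).trans (congrArg _ hp))] at h2
  have het : Etale (vh V' ≫ p1) := inferInstance
  have hb : (vh V' ≫ p2) ≫ V.hom = (vh V' ≫ p1) ≫ t := by
    rw [Category.assoc, Category.assoc]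
    exact congrArg _ hp
  refine ⟨V'.left, vh V' ≫ p1, het, m default, V, vh V' ≫ p2, hb, rs f F n V δ, ?_, ?_⟩
  · rw [← hx, ← hx1, ← hm]
    rfl
  · have h3 := res_fam_rs f F hF n V δ (vh V' ≫ p2) hb
    have h6 : (famH f F hF n t u).res (vh V' ≫ p1) rfl =
        famH f F hF n ((vh V' ≫ p1) ≫ t) (rb f F (vh V' ≫ p1) rfl n u) :=
      famH_res f F hF n (vh V' ≫ p1) rfl u
    refine h6.trans (Eq.trans ?_ h3.symm)
    have h5 : ∀ (ζ ζ' : V'.left ⟶ Y) (e : (vh V' ≫ p1) ≫ t = ζ) (e' : (vh V' ≫ p2) ≫ vh V = ζ)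
        (_ : ζ = ζ') (d : (vh V' ≫ p1) ≫ t = ζ') (d' : (vh V' ≫ p2) ≫ vh V = ζ')
        (_ : rb f F (vh V' ≫ p1) e n u = rb f F (vh V' ≫ p2) e' n δ),
        rb f F (vh V' ≫ p1) d n u = rb f F (vh V' ≫ p2) d' n δ := by
      intro ζ ζ' e e' e1 d d' h
      subst e1
      exact h
    exact congrArg (famH f F hF n ((vh V' ≫ p1) ≫ t))
      (h5 _ _ _ _ (Category.assoc _ _ _).symm rfl hb h2)

end Fam

end Groth.Agent.Etdl.H425.ClsLoc
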