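import Groth.Agent.Etdl.H425.FamMap
import Groth.Agent.Etdl.H425.AbFull
import Groth.Agent.Etcore.LFree
import Groth.Agent.EtpbcB.BCCrit

/-!
# An adjunction from a universal local class

Let `P : Mod Λ X ⥤ Mod Λ S` (`Λ = ℤ/n`) be a left adjoint, `f : X ⟶ S`.  A class `K` consists of a local
family of germs `K.c U` of `P(Λ[U])` on `U ⟶ S`, for every `U` étale over `X`, natural in `U`.  If for `U`
in a basis every local family of germs on `U ⟶ S` of a sheaf `L` on `S` is the image of `K.c U` under a unique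
morphism `P(Λ[U]) ⟶ L`, then `P ⊣ f^*`.
-/

set_option autoImplicit false
set_option backward.isDefEq.respectTransparency.types false
universe u

open CategoryTheory CategoryTheory.Limits AlgebraicGeometry Opposite

namespace Groth.Agent.Etdl.H425.UnitAdj

open Groth.Agent.Etcore Groth.Agent.EtpbcB.Big Groth.Agent.Sga4h.FamAdd Groth.Agent.Etrest.ModAb
open Groth.Agent.Etdl.H425.FamMap Groth.Agent.Etdl.H425.AbFull

/-- The coefficient ring. -/
abbrev Lam (n : ℕ) : Type (u + 1) := ULift.{u + 1} (ZMod n)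

variable {n : ℕ} {X S : Scheme.{u}}

theorem etw' (f : X ⟶ S) {U V : X.Etale} (g : V ⟶ U) : g.left ≫ U.hom ≫ f = V.hom ≫ f := by
  rw [← Category.assoc, et_w]

/-- A natural local class with values in `P(Λ[U])`. -/
structure Cls (f : X ⟶ S) (P : EtModW.Mod (Lam.{u} n) X ⥤ EtModW.Mod (Lam.{u} n) S) where
  /-- the class -/
  c : ∀ U : X.Etale, Fam ((ab (Lam.{u} n) S).obj (P.obj (LFree.LM (Lam.{u} n) U))) (U.hom ≫ f)
  loc : ∀ U : X.Etale, IsLoc (c U)
  nat : ∀ {U V : X.Etale} (g : V ⟶ U),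
    fmap ((ab (Lam.{u} n) S).map (P.map (LFree.map g))) (c V) = (c U).res g.left (etw' f g)

variable {f : X ⟶ S} {P : EtModW.Mod (Lam.{u} n) X ⥤ EtModW.Mod (Lam.{u} n) S}

/-- Image of the class under a morphism. -/
noncomputable def Cls.act (K : Cls f P) {U : X.Etale} {L : EtModW.Mod (Lam.{u} n) S}
    (ψ : P.obj (LFree.LM (Lam.{u} n) U) ⟶ L) : Fam ((ab (Lam.{u} n) S).obj L) (U.hom ≫ f) :=
  fmap ((ab (Lam.{u} n) S).map ψ) (K.c U)

theorem Cls.isLoc_act (K : Cls f P) {U : X.Etale} {L : EtModW.Mod (Lam.{u} n) S}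
    (ψ : P.obj (LFree.LM (Lam.{u} n) U) ⟶ L) : IsLoc (K.act ψ) := isLoc_fmap _ (K.loc U)

theorem Cls.act_add (K : Cls f P) {U : X.Etale} {L : EtModW.Mod (Lam.{u} n) S}
    (ψ ψ' : P.obj (LFree.LM (Lam.{u} n) U) ⟶ L) : K.act (ψ + ψ') = K.act ψ + K.act ψ' := by
  unfold Cls.act
  rw [Functor.map_add, add_fmap]

theorem Cls.act_zero (K : Cls f P) {U : X.Etale} {L : EtModW.Mod (Lam.{u} n) S} :
    K.act (0 : P.obj (LFree.LM (Lam.{u} n) U) ⟶ L) = 0 := by
  unfold Cls.act
  rw [Functor.map_zero, zero_fmap]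

theorem Cls.act_comp (K : Cls f P) {U : X.Etale} {L L' : EtModW.Mod (Lam.{u} n) S}
    (ψ : P.obj (LFree.LM (Lam.{u} n) U) ⟶ L) (φ : L ⟶ L') :
    K.act (ψ ≫ φ) = fmap ((ab (Lam.{u} n) S).map φ) (K.act ψ) := by
  unfold Cls.act
  rw [Functor.map_comp, fmap_comp]

theorem Cls.act_map (K : Cls f P) {U V : X.Etale} (g : V ⟶ U) {L : EtModW.Mod (Lam.{u} n) S}
    (ψ : P.obj (LFree.LM (Lam.{u} n) U) ⟶ L) :
    K.act (P.map (LFree.map g) ≫ ψ) = (K.act ψ).res g.left (etw' f g) := by
  unfold Cls.act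
  rw [Functor.map_comp, fmap_comp, K.nat, fmap_res]

/-- `U` is good for the class if the class is universal for `U`. -/
def Cls.Good (K : Cls f P) (U : X.Etale) : Prop :=
  ∀ (L : EtModW.Mod (Lam.{u} n) S) (v : Fam ((ab (Lam.{u} n) S).obj L) (U.hom ≫ f)), IsLoc v →
    ∃! ψ : P.obj (LFree.LM (Lam.{u} n) U) ⟶ L, K.act ψ = v

section

variable {T : EtModW.Mod (Lam.{u} n) S ⥤ EtModW.Mod (Lam.{u} n) X} (adj : P ⊣ T)

/-- The morphism `P(Λ[U]) ⟶ L` attached to a section of `T(L)` over `U`. -/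
noncomputable def psi {U : X.Etale} {L : EtModW.Mod (Lam.{u} n) S}
    (t : EtModW.sect (Lam.{u} n) (T.obj L) U) : P.obj (LFree.LM (Lam.{u} n) U) ⟶ L :=
  (adj.homEquiv _ _).symm (LFree.desc t)

theorem psi_add [P.Additive] {U : X.Etale} {L : EtModW.Mod (Lam.{u} n) S}
    (t t' : EtModW.sect (Lam.{u} n) (T.obj L) U) : psi adj (t + t') = psi adj t + psi adj t' := by
  have h1 : LFree.desc (t + t') = LFree.desc t + LFree.desc t' := by
    apply LFree.hom_ext
    rw [LFree.add_ev, LFree.desc_gen, LFree.desc_gen, LFree.desc_gen]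
  unfold psi
  rw [h1, Adjunction.homEquiv_counit, Adjunction.homEquiv_counit, Adjunction.homEquiv_counit,
    Functor.map_add, Preadditive.add_comp]

theorem psi_res {U V : X.Etale} (g : V ⟶ U) {L : EtModW.Mod (Lam.{u} n) S}
    (t : EtModW.sect (Lam.{u} n) (T.obj L) U) :
    psi adj (LVan.res (T.obj L) g t) = P.map (LFree.map g) ≫ psi adj t := by
  unfold psi
  rw [← LFree.map_desc, Adjunction.homEquiv_naturality_left_symm]

theorem psi_map {U : X.Etale} {L L' : EtModW.Mod (Lam.{u} n) S} (φ : L ⟶ L')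
    (t : EtModW.sect (Lam.{u} n) (T.obj L) U) :
    psi adj (LVan.ev (T.map φ) U t) = psi adj t ≫ φ := by
  unfold psi
  rw [← LFree.desc_comp, Adjunction.homEquiv_naturality_right_symm]

theorem psi_surjective {U : X.Etale} {L : EtModW.Mod (Lam.{u} n) S}
    (ψ : P.obj (LFree.LM (Lam.{u} n) U) ⟶ L) :
    ∃ t : EtModW.sect (Lam.{u} n) (T.obj L) U, psi adj t = ψ := by
  let a : LFree.LM (Lam.{u} n) U ⟶ T.obj L := (adj.homEquiv _ _) ψ
  have h1 : LFree.desc (LVan.ev a U (LFree.gen (Lam.{u} n) U)) = a := LFree.desc_ev _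
  refine ⟨LVan.ev a U (LFree.gen (Lam.{u} n) U), ?_⟩
  unfold psi
  rw [h1]
  exact (adj.homEquiv _ _).symm_apply_apply ψ

theorem psi_injective {U : X.Etale} {L : EtModW.Mod (Lam.{u} n) S} :
    Function.Injective (psi adj : EtModW.sect (Lam.{u} n) (T.obj L) U → _) := by
  intro t t' h
  have h1 := (adj.homEquiv _ _).symm.injective h
  rw [← LFree.desc_gen t, ← LFree.desc_gen t', h1]

variable [P.Additive] (K : Cls f P) (L : EtModW.Mod (Lam.{u} n) S)

omit [P.Additive] in
theorem exists_theta {U : X.Etale} (t : EtModW.sect (Lam.{u} n) (T.obj L) U) :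
    ∃ s : EtCoh.sect ((EtCoh.pull f).obj ((ab (Lam.{u} n) S).obj L)) U,
      val f _ s = K.act (psi adj t) :=
  exists_of_isLoc f _ _ (K.isLoc_act _)

/-- The map `T(L)(U) ⟶ (f^* L)(U)`. -/
noncomputable def thetaFun {U : X.Etale} (t : EtModW.sect (Lam.{u} n) (T.obj L) U) :
    EtCoh.sect ((EtCoh.pull f).obj ((ab (Lam.{u} n) S).obj L)) U := (exists_theta adj K L t).choose

theorem val_thetaFun {U : X.Etale} (t : EtModW.sect (Lam.{u} n) (T.obj L) U) :
    val f _ (thetaFun adj K L t) = K.act (psi adj t) := (exists_theta adj K L t).choose_spec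

/-- The morphism `T(L) ⟶ f^* L` of abelian sheaves. -/
noncomputable def thetaAb : (ab (Lam.{u} n) X).obj (T.obj L) ⟶
    (EtCoh.pull f).obj ((ab (Lam.{u} n) S).obj L) :=
  ⟨{ app := fun U => AddCommGrpCat.ofHom (AddMonoidHom.mk' (fun t => thetaFun adj K L (U := U.unop) t)
      (fun t t' => by
        apply val_ext
        rw [val_add, val_thetaFun, val_thetaFun, val_thetaFun, psi_add, Cls.act_add]))
     naturality := fun U V g => by
      ext t
      apply val_ext f ((ab (Lam.{u} n) S).obj L) (U := V.unop)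
      have h1 : val f _ (thetaFun adj K L (LVan.res (T.obj L) g.unop t)) =
          (val f _ (thetaFun adj K L t)).res g.unop.left (etw' f g.unop) := by
        rw [val_thetaFun, val_thetaFun, psi_res, Cls.act_map]
      exact h1.trans (val_res f _ g.unop (thetaFun adj K L t)).symm }⟩

theorem thetaAb_apply {U : X.Etale} (t : EtModW.sect (Lam.{u} n) (T.obj L) U) :
    (thetaAb adj K L).hom.app (op U) t = thetaFun adj K L t := rfl

theorem thetaAb_naturality {L L' : EtModW.Mod (Lam.{u} n) S} (φ : L ⟶ L') :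
    (ab (Lam.{u} n) X).map (T.map φ) ≫ thetaAb adj K L' =
      thetaAb adj K L ≫ (EtCoh.pull f).map ((ab (Lam.{u} n) S).map φ) := by
  apply Sheaf.hom_ext
  ext U t
  apply val_ext f ((ab (Lam.{u} n) S).obj L') (U := U.unop)
  have h1 : val f _ (thetaFun adj K L' (LVan.ev (T.map φ) U.unop t)) =
      val f _ (((EtCoh.pull f).map ((ab (Lam.{u} n) S).map φ)).hom.app (op U.unop)
        (thetaFun adj K L t)) := by
    rw [val_map, val_thetaFun, val_thetaFun, psi_map, Cls.act_comp]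
  exact h1

theorem isIso_thetaAb (hK : ∀ (U : X.Etale) (x : U.left), ∃ (V : X.Etale) (g : V ⟶ U),
    x ∈ Set.range g.left ∧ K.Good V) : IsIso (thetaAb adj K L) := by
  apply EtpbcB.BCCrit.isIso_of_local
  · intro U s hs x
    obtain ⟨V, g, ⟨v, hv⟩, hV⟩ := hK U x
    refine ⟨V, g, v, hv, ?_⟩
    have h1 : thetaFun adj K L (U := U) s = 0 := hs
    have h2 : K.act (psi adj (LVan.res (T.obj L) g s)) = 0 := by
      rw [psi_res, Cls.act_map, ← val_thetaFun, h1, val_zero]
      rfl
    have h3 := (hV L 0 isLoc_zero).unique h2 K.act_zero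
    have h4 : psi adj (0 : EtModW.sect (Lam.{u} n) (T.obj L) V) = 0 := by
      have := psi_add adj (0 : EtModW.sect (Lam.{u} n) (T.obj L) V) 0
      rw [add_zero] at this
      exact left_eq_add.1 this
    exact psi_injective adj (h3.trans h4.symm)
  · intro U t x
    obtain ⟨V, g, ⟨v, hv⟩, hV⟩ := hK U x
    obtain ⟨ψ, hψ, -⟩ := hV L _ (val_isLoc f _
      (((EtCoh.pull f).obj ((ab (Lam.{u} n) S).obj L)).obj.map g.op t))
    obtain ⟨s, rfl⟩ := psi_surjective adj ψ
    refine ⟨V, g, v, s, hv, ?_⟩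
    apply val_ext f _
    exact (val_thetaFun adj K L s).trans hψ

/-- The morphism `T(L) ⟶ f^* L`. -/
noncomputable def theta : T.obj L ⟶ (EtModW.pull (Lam.{u} n) f).obj L :=
  (ab (Lam.{u} n) X).preimage (thetaAb adj K L ≫ (pullIso (Lam.{u} n) f).inv.app L)

theorem map_theta : (ab (Lam.{u} n) X).map (theta adj K L) =
    thetaAb adj K L ≫ (pullIso (Lam.{u} n) f).inv.app L := Functor.map_preimage _ _

theorem theta_naturality {L L' : EtModW.Mod (Lam.{u} n) S} (φ : L ⟶ L') :
    T.map φ ≫ theta adj K L' = theta adj K L ≫ (EtModW.pull (Lam.{u} n) f).map φ := by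
  apply (ab (Lam.{u} n) X).map_injective
  rw [Functor.map_comp, Functor.map_comp, map_theta, map_theta, ← Category.assoc,
    thetaAb_naturality, Category.assoc, Category.assoc]
  congr 1
  exact (pullIso (Lam.{u} n) f).inv.naturality φ

include adj in
/-- If the class is universal on a basis, the right adjoint of `P` is `f^*`. -/
theorem nonempty_iso (hK : ∀ (U : X.Etale) (x : U.left), ∃ (V : X.Etale) (g : V ⟶ U),
    x ∈ Set.range g.left ∧ K.Good V) : Nonempty (T ≅ EtModW.pull (Lam.{u} n) f) := by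
  have h1 : ∀ L, IsIso (theta adj K L) := by
    intro L
    have h2 := isIso_thetaAb adj K L hK
    have h3 : IsIso ((ab (Lam.{u} n) X).map (theta adj K L)) := by
      rw [map_theta]
      infer_instance
    exact isIso_of_reflects_iso _ (ab (Lam.{u} n) X)
  exact ⟨NatIso.ofComponents (fun L => @asIso _ _ _ _ (theta adj K L) (h1 L))
    (fun φ => theta_naturality adj K φ)⟩

end

/-- **The adjunction attached to a class universal on a basis.** -/
theorem nonempty_adj [P.Additive] [P.IsLeftAdjoint] (K : Cls f P)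
    (hK : ∀ (U : X.Etale) (x : U.left), ∃ (V : X.Etale) (g : V ⟶ U),
      x ∈ Set.range g.left ∧ K.Good V) : Nonempty (P ⊣ EtModW.pull (Lam.{u} n) f) := by
  obtain ⟨e⟩ := nonempty_iso (Adjunction.ofIsLeftAdjoint P) K hK
  exact ⟨(Adjunction.ofIsLeftAdjoint P).ofNatIsoRight e⟩

end Groth.Agent.Etdl.H425.UnitAdj
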