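import Groth.Agent.Etdl.H425.NuMap
import Groth.Agent.Etdl.H425.UnitAdj
import Groth.Agent.Etdl.H426.EffMod

/-!
# From classes in `R^q p_* (j u)_! (f u)^* E` to classes for the functor `M ↦ R^q f_! (ω ⊗ M)`
-/

set_option autoImplicit false
set_option backward.isDefEq.respectTransparency.types false
universe u

open CategoryTheory CategoryTheory.Limits MonoidalCategory Opposite AlgebraicGeometry

namespace Groth.Agent.Etdl.H425.ClsMk

open Groth.Agent.Etcore Groth.Agent.Etdl.H425.TensGen Groth.Agent.Etdl.H425.FreeTwist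
  Groth.Agent.Etdl.H425.AbFull Groth.Agent.Etrest.ModAb Groth.Agent.EtpbcB.Big
  Groth.Agent.Etdl.H440.CF Groth.Agent.EtpbcB.BCCalc Groth.Agent.Etdl.H425.NuMap
  Groth.Agent.Etdl.H425.FamMap Groth.Agent.Etdl.H425.UnitAdj Groth.Agent.Etdl.H426.EffMod
open Groth.Agent.Etdl.H426.Iface (Rsh)

noncomputable section

variable {X Y S : Scheme.{u}}

/-- A natural system of classes in `R^q p_* (j u)_! (f u)^* E`, for all `u : U ⟶ X` étale. -/
structure ClsE (f : X ⟶ S) (j : X ⟶ Y) [Etale j] (p : Y ⟶ S) (q : ℕ) (E : EtCoh.Ab S) where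
  /-- the class -/
  c : ∀ U : X.Etale, Fam ((EtCoh.Rpush p q).obj ((eCF f j U).L.obj E)) (U.hom ≫ f)
  loc : ∀ U : X.Etale, IsLoc (c U)
  nat : ∀ {U U' : X.Etale} (g : U' ⟶ U),
    fmap ((EtCoh.Rpush p q).map (xM (U'.hom ≫ f) (U'.hom ≫ j) (U.hom ≫ f) (U.hom ≫ j) g.left
      (gw g j) (gw g f) E)) (c U') = (c U).res g.left (etw' f g)

variable {n : ℕ} {f : X ⟶ S} (c : DEt.Compactification f) (q : ℕ) (E : EtCoh.Ab S)
  (ω : EtModW.Mod (Lam.{u} n) X) (κ : (EtCoh.pull f).obj E ⟶ (ab (Lam.{u} n) X).obj ω)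

/-- `M ↦ R^q f_! (ω ⊗ M)`. -/
abbrev PO : EtModW.Mod (Lam.{u} n) X ⥤ EtModW.Mod (Lam.{u} n) S :=
  (EtModD.tensorBi (Lam.{u} n) X).obj ω ⋙ Rsh (Lam.{u} n) c q

/-- `R^q p_* (j u)_! (f u)^* E ⟶ R^q f_! (ω ⊗ Λ[U])`. -/
def pmap (U : X.Etale) : (EtCoh.Rpush c.fbar q).obj ((eCF f c.j U).L.obj E) ⟶
    (ab (Lam.{u} n) S).obj ((PO c q ω).obj (LFree.LM (Lam.{u} n) U)) :=
  (EtCoh.Rpush c.fbar q).map (nu f c.j U E ω κ) ≫
    (rshAbIso (Lam.{u} n) c q).inv.app (TT ω (LFree.LM (Lam.{u} n) U))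

theorem isIso_pmap [IsIso κ] (U : X.Etale) (hU : IsIso (mU ω U)) : IsIso (pmap c q E ω κ U) := by
  have := isIso_nu f c.j U E ω κ hU
  unfold pmap
  infer_instance

theorem pmap_naturality {U U' : X.Etale} (g : U' ⟶ U) :
    (EtCoh.Rpush c.fbar q).map (xM (U'.hom ≫ f) (U'.hom ≫ c.j) (U.hom ≫ f) (U.hom ≫ c.j) g.left
      (gw g c.j) (gw g f) E) ≫ pmap c q E ω κ U =
    pmap c q E ω κ U' ≫ (ab (Lam.{u} n) S).map ((PO c q ω).map (LFree.map g)) := by
  unfold pmap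
  rw [← Category.assoc, ← Functor.map_comp, nu_naturality, Functor.map_comp, Category.assoc,
    Category.assoc]
  congr 1
  exact (rshAbIso (Lam.{u} n) c q).inv.naturality
    (((EtModD.tensorBi (Lam.{u} n) X).obj ω).map (LFree.map g))

/-- The classes for the functor `M ↦ R^q f_! (ω ⊗ M)`. -/
def toCls (K : ClsE f c.j c.fbar q E) : Cls f (PO c q ω) where
  c U := fmap (pmap c q E ω κ U) (K.c U)
  loc U := isLoc_fmap _ (K.loc U)
  nat {U V} g := by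
    rw [← fmap_comp, ← pmap_naturality, fmap_comp, K.nat, fmap_res]

theorem toCls_c (K : ClsE f c.j c.fbar q E) (U : X.Etale) :
    (toCls c q E ω κ K).c U = fmap (pmap c q E ω κ U) (K.c U) := rfl

end

end Groth.Agent.Etdl.H425.ClsMk
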