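import Groth.Agent.Sga4B.DirSum
import Mathlib.Algebra.Homology.DerivedCategory.Ext.Basic
import Mathlib.Algebra.Homology.DerivedCategory.Ext.Linear
import Mathlib.Data.ZMod.Basic

/-!
# Bases of `Ext` groups and direct sums
-/

set_option autoImplicit false

open CategoryTheory CategoryTheory.Limits CategoryTheory.Abelian

namespace Groth.Agent.Etdl.H425.ExtDS

open Groth.Agent.Sga4B.DirSum

universe w v u'

variable {C : Type u'} [Category.{v} C] [Abelian C] [HasExt.{w} C] {P B : C} {k n : ℕ} {I : Type}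
  [Fintype I] {A : I → C} {ι : ∀ i, A i ⟶ B}

theorem val_smul_comp {X Y Z : C} (m : ℕ) (x : Ext.{w} X Y k) (f : Y ⟶ Z) :
    (m • x).comp (Ext.mk₀ f) (add_zero k) = m • x.comp (Ext.mk₀ f) (add_zero k) :=
  map_nsmul ((Ext.mk₀ f).postcomp X (add_zero k)) m x

theorem sum_comp {X Y Z : C} (x : I → Ext.{w} X Y k) (f : Y ⟶ Z) :
    (∑ i, x i).comp (Ext.mk₀ f) (add_zero k) = ∑ i, (x i).comp (Ext.mk₀ f) (add_zero k) :=
  map_sum ((Ext.mk₀ f).postcomp X (add_zero k)) x Finset.univ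

theorem comp_mk₀_mk₀ {X Y Z W : C} (x : Ext.{w} X Y k) (f : Y ⟶ Z) (g : Z ⟶ W) :
    (x.comp (Ext.mk₀ f) (add_zero k)).comp (Ext.mk₀ g) (add_zero k) =
      x.comp (Ext.mk₀ (f ≫ g)) (add_zero k) := by
  rw [Ext.comp_assoc_of_third_deg_zero, Ext.mk₀_comp_mk₀]

theorem comp_mk₀_sum {X Y Z : C} (x : Ext.{w} X Y k) (f : I → (Y ⟶ Z)) :
    x.comp (Ext.mk₀ (∑ i, f i)) (add_zero k) = ∑ i, x.comp (Ext.mk₀ (f i)) (add_zero k) := by
  have h1 : Ext.mk₀ (∑ i, f i) = ∑ i, Ext.mk₀ (f i) := map_sum (Ext.addEquiv₀ (X := Y) (Y := Z)).symm f Finset.univ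
  rw [h1]
  exact map_sum (x.precomp Z (add_zero k)) _ Finset.univ

theorem comp_mk₀_zero {X Y Z : C} (x : Ext.{w} X Y k) :
    x.comp (Ext.mk₀ (0 : Y ⟶ Z)) (add_zero k) = 0 := by
  rw [Ext.mk₀_zero, Ext.comp_zero]

/-- A basis of the `Ext` group of a direct sum from bases of the `Ext` groups of the summands. -/
theorem bijective_sum (h : IsDS ι) (cl : ∀ i, Ext.{w} P (A i) k)
    (hcl : ∀ i, Function.Bijective (fun m : ZMod n => m.val • cl i)) :
    Function.Bijective (fun a : I → ZMod n =>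
      ∑ i, (a i).val • (cl i).comp (Ext.mk₀ (ι i)) (add_zero k)) := by
  classical
  obtain ⟨π, h1, h2, h3⟩ := h
  have key : ∀ (a : I → ZMod n) (j : I),
      (∑ i, (a i).val • (cl i).comp (Ext.mk₀ (ι i)) (add_zero k)).comp (Ext.mk₀ (π j)) (add_zero k) =
        (a j).val • cl j := by
    intro a j
    rw [sum_comp, Finset.sum_eq_single j]
    · rw [val_smul_comp, comp_mk₀_mk₀, h1, Ext.comp_mk₀_id]
    · intro i _ hij
      rw [val_smul_comp, comp_mk₀_mk₀, h2 i j hij, comp_mk₀_zero, smul_zero]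
    · intro hj
      exact absurd (Finset.mem_univ j) hj
  constructor
  · intro a b hab
    funext j
    apply (hcl j).1
    have h4 := congrArg (fun z => Ext.comp z (Ext.mk₀ (π j)) (add_zero k)) hab
    dsimp only at h4
    rw [key, key] at h4
    exact h4
  · intro x
    choose a ha using fun i => (hcl i).2 (x.comp (Ext.mk₀ (π i)) (add_zero k))
    refine ⟨a, ?_⟩
    have h5 : ∀ i, (a i).val • (cl i).comp (Ext.mk₀ (ι i)) (add_zero k) =
        x.comp (Ext.mk₀ (π i ≫ ι i)) (add_zero k) := by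
      intro i
      rw [← val_smul_comp]
      exact (congrArg (fun z => Ext.comp z (Ext.mk₀ (ι i)) (add_zero k)) (ha i)).trans
        (comp_mk₀_mk₀ _ _ _)
    dsimp only
    simp_rw [h5]
    rw [← comp_mk₀_sum, h3, Ext.comp_mk₀_id]

end Groth.Agent.Etdl.H425.ExtDS
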