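import Groth.Agent.Etdl.H425.StkIso
import Mathlib.AlgebraicGeometry.Morphisms.FlatMono
import Mathlib.AlgebraicGeometry.AlgClosed.Basic

/-!
# Decomposition of a geometric fibre

`X ⟶ S' ⟶ S`, `S'` étale over `S`, `X ⟶ S'` with connected geometric fibres; the fibre of `X ⟶ S` at a geometric
point `ξ` is the disjoint union of the fibres of `X ⟶ S'` at the lifts of `ξ`.
-/

set_option autoImplicit false
universe u

open CategoryTheory CategoryTheory.Limits AlgebraicGeometry Opposite

namespace Groth.Agent.Etdl.H425.FibGeo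

open Groth.Agent.EtpbcB.Big (exists_lift)
open Groth.Agent.Etdl.H425.StkIso (Lf)

variable {Ω : Type u} [Field Ω] [IsAlgClosed Ω]

/-- A nonempty scheme locally of finite type over an algebraically closed field has a rational point. -/
theorem exists_point {Y : Scheme.{u}} (f : Y ⟶ Spec (CommRingCat.of Ω)) [LocallyOfFiniteType f]
    [Nonempty Y] : ∃ s : Spec (CommRingCat.of Ω) ⟶ Y, s ≫ f = 𝟙 _ := by
  have hJ : JacobsonSpace Y := LocallyOfFiniteType.jacobsonSpace f
  have h1 : closure ((Set.univ : Set Y) ∩ closedPoints Y) = Set.univ :=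
    JacobsonSpace.closure_inter_closedPoints isClosed_univ
  have h2 : (closedPoints Y).Nonempty := by
    by_contra h
    rw [Set.not_nonempty_iff_eq_empty] at h
    rw [h, Set.inter_empty, closure_empty] at h1
    exact Set.empty_ne_univ h1
  obtain ⟨x, hx⟩ := h2
  exact ⟨pointOfClosedPoint f x hx, pointOfClosedPoint_comp f x hx⟩

section Sec

variable {T : Scheme.{u}} (g : T ⟶ Spec (CommRingCat.of Ω)) [Etale g]

omit [IsAlgClosed Ω] in
theorem isOpenImmersion_sec (m : Spec (CommRingCat.of Ω) ⟶ T) (hm : m ≫ g = 𝟙 _) :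
    IsOpenImmersion m := by
  have h1 : Etale (m ≫ g) := by rw [hm]; infer_instance
  have h2 : Etale m := Etale.of_comp m g
  have h3 : Mono m := by
    have : IsSplitMono m := ⟨⟨⟨g, hm⟩⟩⟩
    infer_instance
  exact IsOpenImmersion.of_flat_of_mono m

omit [IsAlgClosed Ω] in
theorem sec_ext {m m' : Spec (CommRingCat.of Ω) ⟶ T} (hm : m ≫ g = 𝟙 _) (hm' : m' ≫ g = 𝟙 _)
    (h : m default = m' default) : m = m' := by
  have h1 := isOpenImmersion_sec g m hm
  have h2 : Set.range m' ⊆ Set.range m := by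
    rintro _ ⟨z, rfl⟩
    refine ⟨default, ?_⟩
    rw [h, Subsingleton.elim z default]
  have h3 : IsOpenImmersion.lift m m' h2 ≫ m = m' := IsOpenImmersion.lift_fac m m' h2
  have h4 : IsOpenImmersion.lift m m' h2 = 𝟙 _ := by
    have h5 := congrArg (· ≫ g) h3
    simp only [Category.assoc, hm, hm', Category.comp_id] at h5
    exact h5
  rw [h4, Category.id_comp] at h3
  exact h3

theorem exists_sec (t : T) : ∃ m : Spec (CommRingCat.of Ω) ⟶ T, m ≫ g = 𝟙 _ ∧ m default = t :=
  exists_lift g (𝟙 _) t (Subsingleton.elim _ _)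

variable {X : Scheme.{u}} (b : X ⟶ T)

omit [IsAlgClosed Ω] in
theorem mem_range_fst (m : Spec (CommRingCat.of Ω) ⟶ T) (x : X) :
    x ∈ Set.range (pullback.fst b m) ↔ b x = m default := by
  constructor
  · rintro ⟨y, rfl⟩
    rw [← Scheme.Hom.comp_apply, pullback.condition, Scheme.Hom.comp_apply]
    exact congrArg m (Subsingleton.elim _ _)
  · intro h
    obtain ⟨p, hp, -⟩ := Scheme.Pullback.exists_preimage_pullback (f := b) (g := m) x default h
    exact ⟨p, hp⟩

end Sec

/-- The sections of `T`. -/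
abbrev Se {T : Scheme.{u}} (g : T ⟶ Spec (CommRingCat.of Ω)) : Type u :=
  {m : Spec (CommRingCat.of Ω) ⟶ T // m ≫ g = 𝟙 _}

theorem finite_se {T : Scheme.{u}} (g : T ⟶ Spec (CommRingCat.of Ω)) [Etale g] {X : Scheme.{u}}
    [CompactSpace X] (b : X ⟶ T) (hb : Function.Surjective b) : Finite (Se g) := by
  have h1 : ∀ m : Se g, IsOpenImmersion m.1 := fun m => isOpenImmersion_sec g m.1 m.2
  let U : Se g → Set X := fun m => b ⁻¹' (Set.range m.1)
  have hU : ∀ m, IsOpen (U m) := fun m => (m.1.isOpenEmbedding.isOpen_range).preimage b.continuous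
  have hmem : ∀ (m : Se g) (x : X), x ∈ U m ↔ b x = m.1 default := by
    intro m x
    constructor
    · rintro ⟨z, hz⟩
      rw [← hz, Subsingleton.elim z default]
    · intro h
      exact ⟨default, h.symm⟩
  have hcov : (Set.univ : Set X) ⊆ ⋃ m, U m := by
    intro x _
    obtain ⟨m, hm, hm'⟩ := exists_sec g (b x)
    exact Set.mem_iUnion.2 ⟨⟨m, hm⟩, (hmem _ _).2 hm'.symm⟩
  obtain ⟨t, ht⟩ := isCompact_univ.elim_finite_subcover U hU hcov
  have h2 : (Set.univ : Set (Se g)) ⊆ (t : Set (Se g)) := by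
    intro m _
    obtain ⟨x, hx⟩ := hb (m.1 default)
    have h3 := ht (Set.mem_univ x)
    rw [Set.mem_iUnion₂] at h3
    obtain ⟨m', hm', hx'⟩ := h3
    rw [hmem, hx] at hx'
    have h4 : m = m' := Subtype.ext (sec_ext g m.2 m'.2 hx')
    rw [h4]
    exact hm'
  exact Set.finite_univ_iff.1 ((Finset.finite_toSet t).subset h2)

section Main

variable {S X Xf : Scheme.{u}} (ξ : Spec (CommRingCat.of Ω) ⟶ S) (S' : S.Etale) (b : X ⟶ S'.left)
  (x : Xf ⟶ X) (a : Xf ⟶ Spec (CommRingCat.of Ω)) (hX : IsPullback x a (b ≫ S'.hom) ξ)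

/-- The fibre of `S'`. -/
noncomputable abbrev Tf : Scheme.{u} := pullback ξ S'.hom

/-- The map between the fibres. -/
noncomputable def bf : Xf ⟶ Tf ξ S' := pullback.lift a (x ≫ b) (by
  rw [Category.assoc]
  exact hX.w.symm)

omit [IsAlgClosed Ω] in
theorem bf_fst : bf ξ S' b x a hX ≫ pullback.fst ξ S'.hom = a := pullback.lift_fst _ _ _

omit [IsAlgClosed Ω] in
theorem bf_snd : bf ξ S' b x a hX ≫ pullback.snd ξ S'.hom = x ≫ b := pullback.lift_snd _ _ _

omit [IsAlgClosed Ω] in
theorem isPullback_bf : IsPullback (bf ξ S' b x a hX) x (pullback.snd ξ S'.hom) b := by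
  have h1 : IsPullback (bf ξ S' b x a hX ≫ pullback.fst ξ S'.hom) x ξ (b ≫ S'.hom) := by
    rw [bf_fst]
    exact hX.flip
  exact IsPullback.of_right h1 (bf_snd ξ S' b x a hX) (IsPullback.of_hasPullback ξ S'.hom)

/-- Sections of the fibre of `S'` are the lifts of `ξ`. -/
noncomputable def seEquiv : Se (pullback.fst ξ S'.hom) ≃ Lf ξ S' where
  toFun m := ⟨m.1 ≫ pullback.snd ξ S'.hom, by
    rw [Category.assoc, ← pullback.condition, ← Category.assoc, m.2, Category.id_comp]⟩
  invFun s := ⟨pullback.lift (𝟙 _) s.1 (by rw [Category.id_comp, s.2]), pullback.lift_fst _ _ _⟩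
  left_inv m := by
    apply Subtype.ext
    apply pullback.hom_ext
    · rw [pullback.lift_fst, m.2]
    · rw [pullback.lift_snd]
  right_inv s := Subtype.ext (pullback.lift_snd _ _ _)

omit [IsAlgClosed Ω] in
theorem seEquiv_apply (m : Se (pullback.fst ξ S'.hom)) :
    (seEquiv ξ S' m).1 = m.1 ≫ pullback.snd ξ S'.hom := rfl

include hX in
/-- **Decomposition of the fibre.** -/
theorem exists_decomp [CompactSpace Xf] [LocallyOfFiniteType a]
    (hc : ∀ s : Spec (CommRingCat.of Ω) ⟶ S'.left, ConnectedSpace ↥(pullback b s)) :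
    ∃ (N : ℕ) (e : Fin N ≃ Lf ξ S') (W : Fin N → Scheme.{u}) (h : ∀ i, W i ⟶ Xf)
      (y : ∀ i, Spec (CommRingCat.of Ω) ⟶ W i), (∀ i, IsOpenImmersion (h i)) ∧
      (∀ z : Xf, ∃ i, z ∈ Set.range (h i)) ∧
      (∀ i j, i ≠ j → Disjoint (Set.range (h i)) (Set.range (h j))) ∧
      (∀ i, ConnectedSpace (W i)) ∧ (∀ i, y i ≫ h i ≫ a = 𝟙 _) ∧
      ∀ i, y i ≫ h i ≫ x ≫ b = (e i).1 := by
  let g := pullback.fst ξ S'.hom
  let β := bf ξ S' b x a hX
  have hg : Etale g := inferInstance
  have hpb : ∀ m : Spec (CommRingCat.of Ω) ⟶ Tf ξ S',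
      IsPullback (pullback.fst β m ≫ x) (pullback.snd β m) b (m ≫ pullback.snd ξ S'.hom) := by
    intro m
    exact (IsPullback.of_hasPullback β m).paste_horiz (isPullback_bf ξ S' b x a hX).flip
  have hconn : ∀ m : Spec (CommRingCat.of Ω) ⟶ Tf ξ S', ConnectedSpace ↥(pullback β m) := by
    intro m
    have h1 := hc (m ≫ pullback.snd ξ S'.hom)
    exact (Scheme.homeoOfIso (hpb m).isoPullback).symm.surjective.connectedSpace
      (Scheme.homeoOfIso (hpb m).isoPullback).symm.continuous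
  have hsurj : Function.Surjective β := by
    intro t
    obtain ⟨m, hm, hmt⟩ := exists_sec g t
    obtain ⟨z⟩ := (hconn m).toNonempty
    refine ⟨pullback.fst β m z, ?_⟩
    rw [← hmt]
    exact (mem_range_fst β m _).1 ⟨z, rfl⟩
  have hfin := finite_se g β hsurj
  obtain ⟨N, ⟨e₀⟩⟩ := Finite.exists_equiv_fin (Se g)
  have hop : ∀ m : Se g, IsOpenImmersion m.1 := fun m => isOpenImmersion_sec g m.1 m.2
  have hop' : ∀ m : Se g, IsOpenImmersion (pullback.fst β m.1) := fun m => by
    have := hop m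
    infer_instance
  have hpt : ∀ m : Se g, ∃ y : Spec (CommRingCat.of Ω) ⟶ pullback β m.1,
      y ≫ pullback.fst β m.1 ≫ a = 𝟙 _ := by
    intro m
    have := hop' m
    have := hconn m.1
    exact exists_point (pullback.fst β m.1 ≫ a)
  choose y hy using hpt
  refine ⟨N, e₀.symm.trans (seEquiv ξ S'), fun i => pullback β (e₀.symm i).1,
    fun i => pullback.fst β (e₀.symm i).1, fun i => y (e₀.symm i), fun i => hop' _, ?_, ?_, ?_, ?_, ?_⟩
  · intro z
    obtain ⟨m, hm, hmt⟩ := exists_sec g (β z)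
    refine ⟨e₀ ⟨m, hm⟩, ?_⟩
    rw [mem_range_fst, Equiv.symm_apply_apply]
    exact hmt.symm
  · intro i j hij
    rw [Set.disjoint_left]
    intro z h1 h2
    rw [mem_range_fst] at h1 h2
    apply hij
    apply e₀.symm.injective
    apply Subtype.ext
    exact sec_ext g (e₀.symm i).2 (e₀.symm j).2 (h1.symm.trans h2)
  · intro i
    exact hconn _
  · intro i
    exact hy _
  · intro i
    have h1 : (y (e₀.symm i) ≫ pullback.snd β (e₀.symm i).1) = 𝟙 _ := by
      have h2 := hy (e₀.symm i)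
      have h3 : pullback.fst β (e₀.symm i).1 ≫ a =
          pullback.snd β (e₀.symm i).1 ≫ (e₀.symm i).1 ≫ g := by
        rw [← Category.assoc, ← pullback.condition, Category.assoc]
        congr 1
        exact (bf_fst ξ S' b x a hX).symm
      rw [h3, (e₀.symm i).2, Category.comp_id] at h2
      exact h2
    have h4 : x ≫ b = β ≫ pullback.snd ξ S'.hom := (bf_snd ξ S' b x a hX).symm
    rw [h4]
    have h5 : pullback.fst β (e₀.symm i).1 ≫ β ≫ pullback.snd ξ S'.hom =
        pullback.snd β (e₀.symm i).1 ≫ (e₀.symm i).1 ≫ pullback.snd ξ S'.hom := by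
      rw [← Category.assoc, pullback.condition, Category.assoc]
    rw [h5, ← Category.assoc, h1, Category.id_comp]
    rfl

end Main

end Groth.Agent.Etdl.H425.FibGeo
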