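import Groth.Agent.Etdl.H425.TensGen
import Groth.Agent.Etdl.H425.AbFull
import Groth.Agent.Etdl.H440.CFGeom
import Groth.Agent.EtpbcB.Big
import Groth.Agent.Etdl.H426.Iface

/-!
# `U_! U^* N ≅ N ⊗ Λ[U]`, naturally in `U`

`mU N U : (efCF U.hom U.hom).L.obj (ab N) ⟶ ab (N ⊗ Λ[U])` sends the unit section attached to `s ∈ N(V)` to
`s ⊗ gen` over `V ×_X U`; it is an isomorphism, natural in `U`.
-/

set_option autoImplicit false
set_option backward.isDefEq.respectTransparency.types false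
universe u

open CategoryTheory CategoryTheory.Limits MonoidalCategory Opposite TensorProduct AlgebraicGeometry

namespace Groth.Agent.Etdl.H425.FreeTwist

open Groth.Agent.Etcore Groth.Agent.Sga4h.HomSh Groth.Agent.Etdl.H425.TensGen
  Groth.Agent.Etdl.H425.AbFull Groth.Agent.Etrest.ModAb Groth.Agent.EtpbcB.Big
  Groth.Agent.Etdl.H440.CF
open Groth.Agent.Etdl.H426.Iface (Lam)

noncomputable section

variable {X : Scheme.{u}}

section Geom

variable (U V : X.Etale)

/-- The functor `V ↦ (V ×_X U ⟶ X)`. -/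
abbrev AU : CF X X := efCF U.hom U.hom

/-- First projection. -/
def pV : (AU U).v.obj V ⟶ V := etHom (eT U.hom U.hom V) (e_w U.hom U.hom V)

/-- Second projection. -/
def pU : (AU U).v.obj V ⟶ U := etHom (eW U.hom U.hom V) (eW_w U.hom U.hom V)

variable {U V}

theorem p_ext {W : X.Etale} {a b : W ⟶ (AU U).v.obj V} (h1 : a ≫ pV U V = b ≫ pV U V)
    (h2 : a ≫ pU U V = b ≫ pU U V) : a = b :=
  e_hom_ext U.hom U.hom (congrArg (fun k => k.left) h1) (congrArg (fun k => k.left) h2)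

/-- Morphisms into `V ×_X U`. -/
def pL {W : X.Etale} (a : W ⟶ V) (b : W ⟶ U) : W ⟶ (AU U).v.obj V :=
  eLift U.hom U.hom b.left (et_w b) a.left ((et_w a).trans (et_w b).symm)

theorem pL_V {W : X.Etale} (a : W ⟶ V) (b : W ⟶ U) : pL a b ≫ pV U V = a :=
  et_hom_ext (eLift_eT U.hom U.hom b.left (et_w b) a.left ((et_w a).trans (et_w b).symm))

theorem pL_U {W : X.Etale} (a : W ⟶ V) (b : W ⟶ U) : pL a b ≫ pU U V = b :=
  et_hom_ext (eLift_eW U.hom U.hom b.left (et_w b) a.left ((et_w a).trans (et_w b).symm))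

theorem map_pV {V V' : X.Etale} (g : V' ⟶ V) : (AU U).v.map g ≫ pV U V = pV U V' ≫ g :=
  et_hom_ext (map_eT U.hom U.hom g)

theorem map_pU {V V' : X.Etale} (g : V' ⟶ V) : (AU U).v.map g ≫ pU U V = pU U V' :=
  et_hom_ext (map_eW U.hom U.hom g)

/-- Functoriality in `U`. -/
def thU {U U' : X.Etale} (g : U' ⟶ U) : (AU U').v ⟶ (AU U).v where
  app V := pL (pV U' V) (pU U' V ≫ g)
  naturality V V' k := by
    apply p_ext
    · rw [Category.assoc, pL_V, Category.assoc, map_pV, map_pV, ← Category.assoc, pL_V]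
    · rw [Category.assoc, pL_U, Category.assoc, map_pU, ← Category.assoc, map_pU, pL_U]

theorem thU_V {U U' : X.Etale} (g : U' ⟶ U) (V : X.Etale) :
    (thU g).app V ≫ pV U V = pV U' V := pL_V _ _

theorem thU_U {U U' : X.Etale} (g : U' ⟶ U) (V : X.Etale) :
    (thU g).app V ≫ pU U V = pU U' V ≫ g := pL_U _ _

end Geom

section Map

variable {n : ℕ} (N : EtModW.Mod (Lam.{u} n) X) (U : X.Etale)

/-- The section `s ⊗ gen` over `V ×_X U`. -/
def tg {V : X.Etale} (s : EtModW.sect (Lam.{u} n) N V) :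
    EtModW.sect (Lam.{u} n) (TT N (LFree.LM (Lam.{u} n) U)) ((AU U).v.obj V) :=
  tm (LVan.res N (pV U V) s) (LVan.res (LFree.LM (Lam.{u} n) U) (pU U V) (LFree.gen (Lam.{u} n) U))

theorem res_tg {V W : X.Etale} (k : W ⟶ (AU U).v.obj V) (s : EtModW.sect (Lam.{u} n) N V) :
    LVan.res (TT N (LFree.LM (Lam.{u} n) U)) k (tg N U s) =
      tm (LVan.res N (k ≫ pV U V) s) (LVan.res (LFree.LM (Lam.{u} n) U) (k ≫ pU U V) (LFree.gen (Lam.{u} n) U)) := by
  unfold tg
  rw [res_tm, LVan.res_comp, LVan.res_comp]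

theorem tm_add_left {M : EtModW.Mod (Lam.{u} n) X} {W : X.Etale} (s s' : EtModW.sect (Lam.{u} n) N W)
    (t : EtModW.sect (Lam.{u} n) M W) : tm (s + s') t = tm s t + tm s' t :=
  (congrArg ((toSheafify X.smallEtaleTopology
    ((N.obj : X.Etaleᵒᵖ ⥤ ModuleCat.{u + 1} (Lam.{u} n)) ⊗ M.obj)).app (op W)).hom
      (TensorProduct.add_tmul s s' t)).trans (map_add _ _ _)

theorem tg_add {V : X.Etale} (s t : EtModW.sect (Lam.{u} n) N V) : tg N U (s + t) = tg N U s + tg N U t := by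
  unfold tg
  rw [map_add, tm_add_left]

theorem tg_res {V V' : X.Etale} (g : V' ⟶ V) (s : EtModW.sect (Lam.{u} n) N V) :
    tg N U (LVan.res N g s) = LVan.res (TT N (LFree.LM (Lam.{u} n) U)) ((AU U).v.map g) (tg N U s) := by
  rw [res_tg, map_pV, map_pU]
  unfold tg
  rw [LVan.res_comp]

/-- The morphism `N ⟶ ((V ↦ V ×_X U))_* (N ⊗ Λ[U])`. -/
def preM : (ab (Lam.{u} n) X).obj N ⟶ ((AU U).v.sheafPushforwardContinuous AddCommGrpCat.{u + 1}
    X.smallEtaleTopology X.smallEtaleTopology).obj ((ab (Lam.{u} n) X).obj (TT N (LFree.LM (Lam.{u} n) U))) :=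
  ⟨{ app := fun V => AddCommGrpCat.ofHom (AddMonoidHom.mk' (fun s => tg N U (V := V.unop) s)
      (fun s t => tg_add N U s t))
     naturality := fun V V' g => by
      ext s
      exact tg_res N U g.unop s }⟩

theorem preM_apply {V : X.Etale} (s : EtModW.sect (Lam.{u} n) N V) :
    (preM N U).hom.app (op V) s = tg N U s := rfl

/-- The morphism `U_! U^* N ⟶ N ⊗ Λ[U]`. -/
def mU : (AU U).L.obj ((ab (Lam.{u} n) X).obj N) ⟶ (ab (Lam.{u} n) X).obj (TT N (LFree.LM (Lam.{u} n) U)) :=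
  (AU U).desc (preM N U)

theorem mU_un {V : X.Etale} (s : EtCoh.sect ((ab (Lam.{u} n) X).obj N) V) :
    (mU N U).hom.app (op ((AU U).v.obj V)) ((AU U).un s) = tg N U s :=
  (AU U).desc_un (preM N U) s

/-- Naturality in `U`. -/
theorem mU_naturality {U' : X.Etale} (g : U' ⟶ U) :
    (CF.tr (thU g)).app ((ab (Lam.{u} n) X).obj N) ≫ mU N U =
      mU N U' ≫ (ab (Lam.{u} n) X).map (((EtModD.tensorBi (Lam.{u} n) X).obj N).map (LFree.map g)) := by
  apply (AU U').hom_ext
  intro V s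
  have h1 : ((CF.tr (thU g)).app ((ab (Lam.{u} n) X).obj N) ≫ mU N U).hom.app (op ((AU U').v.obj V))
      ((AU U').un s) = LVan.res (TT N (LFree.LM (Lam.{u} n) U)) ((thU g).app V) (tg N U s) := by
    refine (congrArg ((mU N U).hom.app (op ((AU U').v.obj V))) (CF.tr_un (thU g) s)).trans ?_
    refine (ConcreteCategory.congr_hom ((mU N U).hom.naturality ((thU g).app V).op)
      ((AU U).un s)).trans ?_
    exact congrArg (((ab (Lam.{u} n) X).obj (TT N (LFree.LM (Lam.{u} n) U))).obj.map ((thU g).app V).op) (mU_un N U s)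
  have h2 : (mU N U' ≫ (ab (Lam.{u} n) X).map (((EtModD.tensorBi (Lam.{u} n) X).obj N).map (LFree.map g))).hom.app
      (op ((AU U').v.obj V)) ((AU U').un s) =
      LVan.ev (((EtModD.tensorBi (Lam.{u} n) X).obj N).map (LFree.map g)) _ (tg N U' s) :=
    congrArg (((ab (Lam.{u} n) X).map (((EtModD.tensorBi (Lam.{u} n) X).obj N).map (LFree.map g))).hom.app
      (op ((AU U').v.obj V))) (mU_un N U' s)
  refine h1.trans (Eq.trans ?_ h2.symm)
  rw [res_tg, thU_V, thU_U]
  unfold tg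
  rw [ev_map_tm, ← LVan.res_ev, LFree.map_gen, LVan.res_comp]

variable (B : EtModW.Mod (Lam.{u} n) X) (β : (ab (Lam.{u} n) X).obj B ≅ (AU U).L.obj ((ab (Lam.{u} n) X).obj N))

/-- The additive map `N(W) ⟶ B(W)` for `g : W ⟶ U`. -/
def uadd {W : X.Etale} (g : W ⟶ U) : EtModW.sect (Lam.{u} n) N W →+ EtModW.sect (Lam.{u} n) B W :=
  (β.inv.hom.app (op W)).hom.comp
    ((((AU U).L.obj ((ab (Lam.{u} n) X).obj N)).obj.map (pL (𝟙 W) g).op).hom.comp
      (((AU U).adj.unit.app ((ab (Lam.{u} n) X).obj N)).hom.app (op W)).hom)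

theorem uadd_apply {W : X.Etale} (g : W ⟶ U) (s : EtModW.sect (Lam.{u} n) N W) :
    uadd N U B β g s = β.inv.hom.app (op W)
      (((AU U).L.obj ((ab (Lam.{u} n) X).obj N)).obj.map (pL (𝟙 W) g).op ((AU U).un (F := (ab (Lam.{u} n) X).obj N) s)) :=
  rfl

theorem uadd_res {W W' : X.Etale} (g : W ⟶ U) (h : W' ⟶ W) (s : EtModW.sect (Lam.{u} n) N W) :
    uadd N U B β (h ≫ g) (LVan.res N h s) = LVan.res B h (uadd N U B β g s) := by
  rw [uadd_apply, uadd_apply]
  have h1 : (AU U).un (F := (ab (Lam.{u} n) X).obj N) (LVan.res N h s) =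
      ((AU U).L.obj ((ab (Lam.{u} n) X).obj N)).obj.map ((AU U).v.map h).op
        ((AU U).un (F := (ab (Lam.{u} n) X).obj N) s) := (AU U).un_res (F := (ab (Lam.{u} n) X).obj N) h s
  rw [h1]
  have h2 := ConcreteCategory.congr_hom (β.inv.hom.naturality h.op)
    (((AU U).L.obj ((ab (Lam.{u} n) X).obj N)).obj.map (pL (𝟙 W) g).op ((AU U).un (F := (ab (Lam.{u} n) X).obj N) s))
  refine Eq.trans ?_ h2
  refine congrArg (β.inv.hom.app (op W')) ?_
  refine (et_map_map _ _ _ _).trans (Eq.trans ?_ (et_map_map _ _ _ _).symm)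
  have h3 : pL (𝟙 W') (h ≫ g) ≫ (AU U).v.map h = h ≫ pL (𝟙 W) g := by
    apply p_ext
    · rw [Category.assoc, map_pV, ← Category.assoc, pL_V, Category.assoc, pL_V, Category.id_comp,
        Category.comp_id]
    · rw [Category.assoc, map_pU, pL_U, Category.assoc, pL_U]
  rw [h3]

/-- The section of the internal Hom. -/
def uH : (homSh N B).obj.obj (op U) :=
  Groth.Agent.Sga4h.HomPre.mk (A := N.obj) (H := B.obj) (W := U)
    (fun W g => ModuleCat.ofHom (toLin (uadd N U B β g)))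
    (fun W W' g h => by
      apply ModuleCat.hom_ext
      apply LinearMap.ext
      intro s
      exact uadd_res N U B β g h s)

theorem hev_uH {W : X.Etale} (g : W ⟶ U) (s : EtModW.sect (Lam.{u} n) N W) :
    (hev (uH N U B β) g).hom s = uadd N U B β g s := rfl

/-- The inverse. -/
def iU : TT N (LFree.LM (Lam.{u} n) U) ⟶ B := descT (uH N U B β)

theorem iU_tm {W : X.Etale} (g : W ⟶ U) (s : EtModW.sect (Lam.{u} n) N W) :
    LVan.ev (iU N U B β) W (tm s (LVan.res (LFree.LM (Lam.{u} n) U) g (LFree.gen (Lam.{u} n) U))) =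
      uadd N U B β g s := descT_tm (uH N U B β) g s

theorem mU_iU : mU N U ≫ (ab (Lam.{u} n) X).map (iU N U B β) ≫ β.hom = 𝟙 _ := by
  apply (AU U).hom_ext
  intro V s
  have h1 : (mU N U ≫ (ab (Lam.{u} n) X).map (iU N U B β) ≫ β.hom).hom.app (op ((AU U).v.obj V))
      ((AU U).un s) = β.hom.hom.app (op ((AU U).v.obj V))
        (LVan.ev (iU N U B β) ((AU U).v.obj V) (tg N U s)) :=
    congrArg (fun t => β.hom.hom.app (op ((AU U).v.obj V))
      (((ab (Lam.{u} n) X).map (iU N U B β)).hom.app (op ((AU U).v.obj V)) t)) (mU_un N U s)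
  refine h1.trans ?_
  unfold tg
  rw [iU_tm, uadd_apply]
  have h2 : ∀ t, β.hom.hom.app (op ((AU U).v.obj V)) (β.inv.hom.app (op ((AU U).v.obj V)) t) = t :=
    fun t => congrArg (fun k => k.hom.app (op ((AU U).v.obj V)) t) β.inv_hom_id
  refine (h2 _).trans ?_
  have h3 : (AU U).un (F := (ab (Lam.{u} n) X).obj N) (LVan.res N (pV U V) s) =
      ((AU U).L.obj ((ab (Lam.{u} n) X).obj N)).obj.map ((AU U).v.map (pV U V)).op
        ((AU U).un (F := (ab (Lam.{u} n) X).obj N) s) := (AU U).un_res (F := (ab (Lam.{u} n) X).obj N) (pV U V) s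
  rw [h3]
  refine (et_map_map _ _ _ _).trans ?_
  have h4 : pL (𝟙 ((AU U).v.obj V)) (pU U V) ≫ (AU U).v.map (pV U V) = 𝟙 _ := by
    apply p_ext
    · rw [Category.assoc, map_pV, ← Category.assoc, pL_V]
    · rw [Category.assoc, map_pU, pL_U, Category.id_comp]
  rw [h4, op_id, CategoryTheory.Functor.map_id]
  rfl

theorem iU_mU : ((ab (Lam.{u} n) X).map (iU N U B β) ≫ β.hom) ≫ mU N U = 𝟙 _ := by
  let m' : B ⟶ TT N (LFree.LM (Lam.{u} n) U) := (ab (Lam.{u} n) X).preimage (β.hom ≫ mU N U)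
  have hm : (ab (Lam.{u} n) X).map m' = β.hom ≫ mU N U := (ab (Lam.{u} n) X).map_preimage _
  have h1 : iU N U B β ≫ m' = 𝟙 _ := by
    apply hom_ext_tm
    intro W g s
    rw [LFree.comp_ev, LFree.id_ev, iU_tm]
    have h2 : LVan.ev m' W (uadd N U B β g s) =
        (mU N U).hom.app (op W) (β.hom.hom.app (op W) (uadd N U B β g s)) :=
      congrArg (fun k => k.hom.app (op W) (uadd N U B β g s)) hm
    refine h2.trans ?_
    rw [uadd_apply]
    have h3 : ∀ t, β.hom.hom.app (op W) (β.inv.hom.app (op W) t) = t :=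
      fun t => congrArg (fun k => k.hom.app (op W) t) β.inv_hom_id
    rw [h3]
    refine (ConcreteCategory.congr_hom ((mU N U).hom.naturality (pL (𝟙 W) g).op)
      ((AU U).un (F := (ab (Lam.{u} n) X).obj N) s)).trans ?_
    have h4 := congrArg (((ab (Lam.{u} n) X).obj (TT N (LFree.LM (Lam.{u} n) U))).obj.map (pL (𝟙 W) g).op)
      (mU_un N U (V := W) s)
    refine h4.trans ?_
    have h5 := res_tg N U (pL (𝟙 W) g) s
    rw [pL_V, pL_U, LVan.res_id] at h5
    exact h5
  rw [Category.assoc, ← hm, ← Functor.map_comp, h1, CategoryTheory.Functor.map_id]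

include B β in
theorem isIso_mU : IsIso (mU N U) :=
  ⟨(ab (Lam.{u} n) X).map (iU N U B β) ≫ β.hom, mU_iU N U B β, iU_mU N U B β⟩

end Map

end

end Groth.Agent.Etdl.H425.FreeTwist
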