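import Groth.Agent.Etdl.H425.UnitAdj
import Groth.Agent.EtpbcB.FamUp

/-!
# Classes given by a section over an étale `S`-scheme

Let `V` be étale over `X`, `S'` étale over `S`, `b : V ⟶ S'` flat quasi-compact with connected geometric fibres.
If the class of `V` is the pull back of a section `γ` of `P(Λ[V])` over `S'` such that `Λ[S'] ⟶ P(Λ[V])` is an
isomorphism, then `V` is good.
-/

set_option autoImplicit false
set_option backward.isDefEq.respectTransparency.types false
universe u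

open CategoryTheory CategoryTheory.Limits AlgebraicGeometry Opposite

namespace Groth.Agent.Etdl.H425.GoodPair

open Groth.Agent.Etcore Groth.Agent.EtpbcB.Big Groth.Agent.Sga4h.FamAdd Groth.Agent.Etrest.ModAb
open Groth.Agent.Etdl.H425.FamMap Groth.Agent.Etdl.H425.AbFull Groth.Agent.Etdl.H425.UnitAdj

variable {n : ℕ} {X S : Scheme.{u}}

/-- Non-empty geometric fibres imply surjectivity. -/
theorem surjective_of_fibres {V T : Scheme.{u}} (b : V ⟶ T)
    (hc : ∀ (Ω : Type u) [Field Ω] [IsAlgClosed Ω] (s : Spec (CommRingCat.of Ω) ⟶ T),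
      ConnectedSpace ↥(pullback b s)) : Function.Surjective b := by
  intro y
  let s : Spec (CommRingCat.of (AlgebraicClosure (T.residueField y))) ⟶ T :=
    Spec.map (CommRingCat.ofHom (algebraMap (T.residueField y) (AlgebraicClosure (T.residueField y)))) ≫
      T.fromSpecResidueField y
  obtain ⟨z⟩ := (hc _ s).toNonempty
  refine ⟨pullback.fst b s z, ?_⟩
  have h1 : b (pullback.fst b s z) = s (pullback.snd b s z) := by
    rw [← Scheme.Hom.comp_apply, ← Scheme.Hom.comp_apply, pullback.condition]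
  rw [h1]
  have h2 : s (pullback.snd b s z) ∈ Set.range (T.fromSpecResidueField y) := ⟨_, rfl⟩
  rw [Scheme.range_fromSpecResidueField] at h2
  exact h2

/-- Local families which agree after a surjective morphism are equal. -/
theorem res_inj_of_surjective {F : EtCoh.Ab S} {Z Z' : Scheme.{u}} {q : Z ⟶ S} {q' : Z' ⟶ S}
    {v w : Fam F q} (hv : IsLoc v) (hw : IsLoc w) (b : Z' ⟶ Z) (hb : Function.Surjective b)
    (h : b ≫ q = q') (e : v.res b h = w.res b h) : v = w := by
  refine eq_of_agree fun z => ?_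
  obtain ⟨z', rfl⟩ := hb z
  have h1 := hv.agree_res hw b h
  have h2 : z' ∈ agree (v.res b h) (w.res b h) := by
    rw [e]
    intro Ω _ _ l ξ hl _
    rfl
  rw [h1] at h2
  exact h2

variable {f : X ⟶ S} {P : EtModW.Mod (Lam.{u} n) X ⥤ EtModW.Mod (Lam.{u} n) S}

theorem act_pair (K : Cls f P) {V : X.Etale} {S' : S.Etale} (b : V.left ⟶ S'.left)
    (hw : b ≫ S'.hom = V.hom ≫ f) (γ : EtModW.sect (Lam.{u} n) (P.obj (LFree.LM (Lam.{u} n) V)) S')
    (hγ : K.c V = (fam (F := (ab (Lam.{u} n) S).obj (P.obj (LFree.LM (Lam.{u} n) V))) γ).res b hw)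
    {L : EtModW.Mod (Lam.{u} n) S} (ψ : P.obj (LFree.LM (Lam.{u} n) V) ⟶ L) :
    K.act ψ = (fam (F := (ab (Lam.{u} n) S).obj L) (LVan.ev ψ S' γ)).res b hw := by
  unfold Cls.act
  rw [hγ, fmap_res, fmap_fam]
  rfl

/-- The criterion for a class to be universal. -/
theorem good_of_pair (K : Cls f P) (V : X.Etale) (S' : S.Etale) (b : V.left ⟶ S'.left) [Flat b]
    [QuasiCompact b] (hw : b ≫ S'.hom = V.hom ≫ f)
    (hc : ∀ (Ω : Type u) [Field Ω] [IsAlgClosed Ω] (s : Spec (CommRingCat.of Ω) ⟶ S'.left),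
      ConnectedSpace ↥(pullback b s))
    (γ : EtModW.sect (Lam.{u} n) (P.obj (LFree.LM (Lam.{u} n) V)) S')
    (hγ : K.c V = (fam (F := (ab (Lam.{u} n) S).obj (P.obj (LFree.LM (Lam.{u} n) V))) γ).res b hw)
    (hiso : IsIso (LFree.desc γ)) : K.Good V := by
  intro L v hv
  obtain ⟨v', hv', hv''⟩ := exists_of_connected b hc hw v hv
  obtain ⟨σ, hσ⟩ := exists_sect v' hv'
  have key : ∀ (ψ : P.obj (LFree.LM (Lam.{u} n) V) ⟶ L), K.act ψ = v → LVan.ev ψ S' γ = σ := by
    intro ψ hψ
    rw [act_pair K b hw γ hγ, ← hv'', ← hσ] at hψ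
    exact fam_injective (res_inj_of_surjective (isLoc_fam _) (isLoc_fam _) b
      (surjective_of_fibres b hc) hw hψ)
  refine ⟨inv (LFree.desc γ) ≫ LFree.desc σ, ?_, fun ψ hψ => ?_⟩
  · have h1 : LVan.ev (inv (LFree.desc γ) ≫ LFree.desc σ) S' γ = σ := by
      have h2 : LVan.ev (inv (LFree.desc γ) ≫ LFree.desc σ) S'
          (LVan.ev (LFree.desc γ) S' (LFree.gen _ S')) = σ := by
        rw [← LFree.comp_ev, IsIso.hom_inv_id_assoc, LFree.desc_gen]
      rwa [LFree.desc_gen] at h2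
    have h3 := act_pair K b hw γ hγ (inv (LFree.desc γ) ≫ LFree.desc σ)
    rw [h1] at h3
    rw [← hv'', ← hσ]
    exact h3
  · have h1 := key ψ hψ
    rw [← cancel_epi (LFree.desc γ), IsIso.hom_inv_id_assoc]
    apply LFree.hom_ext
    rw [LFree.comp_ev, LFree.desc_gen, LFree.desc_gen, h1]

end Groth.Agent.Etdl.H425.GoodPair
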