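import Groth.Agent.Sga5.H848.TateTwist

/-!
# The Tate twists of a Kummer sheaf of modules and pull backs

`nonempty_ab_tate` : the abelian sheaf underlying `Λ(d)` is `EtDual.tate X n d`;
`nonempty_kap` : `f⁻¹ ℤ/n(d) ≅ Λ(d)^ab`.
-/

set_option autoImplicit false
universe u

open CategoryTheory CategoryTheory.Limits AlgebraicGeometry MonoidalCategory Opposite

namespace Groth.Agent.Etdl.H425.KapTate

open Groth.Agent.Sga4B.PDKummer Groth.Agent.Etrest.ModAb Groth.Agent.Sga4h.ModDTensor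
  Groth.Agent.Sga5.H848.TwistMod Groth.Agent.Sga5.H848.AbTens Groth.Agent.Sga5.H848.TateTwist
  Groth.Agent.Sga4h.EtaleRes2

variable {n : ℕ} {X S : Scheme.{u}}

/-- The abelian sheaf underlying `Λ(d)`. -/
theorem nonempty_ab_tate (μ : EtModW.Mod (ULift.{u + 1} (ZMod n)) X) (hμ : EtModD.IsKummer n μ) (d : ℕ) :
    Nonempty ((ab (ULift.{u + 1} (ZMod n)) X).obj (EtModD.tate μ d) ≅ EtDual.tate X n d) := by
  induction d with
  | zero => exact ⟨abCst n X⟩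
  | succ d ih =>
    obtain ⟨e⟩ := ih
    obtain ⟨i⟩ := hμ
    exact ⟨abTens (EtModD.tate μ d) μ ≪≫ tensorAbIso e i⟩

/-- `f⁻¹ ℤ/n(d) ≅ Λ(d)^ab`. -/
theorem nonempty_kap (f : X ⟶ S) (hn : IsUnit (n : Γ(S, ⊤)))
    (μ : EtModW.Mod (ULift.{u + 1} (ZMod n)) X) (hμ : EtModD.IsKummer n μ) (d : ℕ) :
    Nonempty ((EtCoh.pull f).obj (EtDual.tate S n d) ≅
      (ab (ULift.{u + 1} (ZMod n)) X).obj (EtModD.tate μ d)) := by
  obtain ⟨e⟩ := nonempty_ab_tate μ hμ d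
  obtain ⟨-, ⟨k⟩⟩ := nonempty_pull_tate f hn d
  exact ⟨k ≪≫ e.symm⟩

end Groth.Agent.Etdl.H425.KapTate
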