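import Groth.Agent.Etdl.H425.FreeTwist
import Groth.Agent.Etdl.H440.CFNat

/-!
# `(j u)_! (f u)^* E ≅ j_! (ω ⊗ Λ[U])`

`f : X ⟶ S`, `j : X ⟶ Y` étale, `u : U ⟶ X` étale, `κ : f^* E ≅ ω`:
`nu U : (efCF (u ≫ f) (u ≫ j)).L.obj E ⟶ j_! (ω ⊗ Λ[U])`, natural in `U`, and an isomorphism.
-/

set_option autoImplicit false
set_option backward.isDefEq.respectTransparency.types false
universe u

open CategoryTheory CategoryTheory.Limits MonoidalCategory Opposite AlgebraicGeometry

namespace Groth.Agent.Etdl.H425.NuMap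

open Groth.Agent.Etcore Groth.Agent.Etdl.H425.TensGen Groth.Agent.Etdl.H425.FreeTwist
  Groth.Agent.Etdl.H425.AbFull Groth.Agent.Etrest.ModAb Groth.Agent.EtpbcB.Big
  Groth.Agent.Etdl.H440.CF Groth.Agent.EtpbcB.BCCalc
open Groth.Agent.Etdl.H426.Iface (Lam)

noncomputable section

variable {X Y S : Scheme.{u}} (f : X ⟶ S) (j : X ⟶ Y) [Etale j] (U : X.Etale)

/-- The functor `V ↦ ((V ×_S X) ×_X U ⟶ Y)`. -/
abbrev compCF : CF S Y := ((pullCF f).comp (AU U)).comp (shCF j)

/-- The functor `V ↦ (V ×_S U ⟶ Y)`. -/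
abbrev eCF : CF S Y := efCF (U.hom ≫ f) (U.hom ≫ j)

/-- The projection `(V ×_S X) ×_X U ⟶ V`. -/
def cT (V : S.Etale) : ((compCF f j U).v.obj V).left ⟶ V.left :=
  eT U.hom U.hom ((EtCoh.bc f).obj V) ≫ pr f V

/-- The projection `(V ×_S X) ×_X U ⟶ U`. -/
def cW (V : S.Etale) : ((compCF f j U).v.obj V).left ⟶ U.left :=
  eW U.hom U.hom ((EtCoh.bc f).obj V)

theorem isPullback_c (V : S.Etale) :
    IsPullback (cT f j U V) (cW f j U V) V.hom (U.hom ≫ f) :=
  ((isPullback_e U.hom U.hom ((EtCoh.bc f).obj V)).flip.paste_vert (isPullback_pr f V).flip).flip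

theorem cW_j (V : S.Etale) : cW f j U V ≫ U.hom ≫ j = ((compCF f j U).v.obj V).hom :=
  (Category.assoc _ _ _).symm.trans (congrArg (· ≫ j) (eW_w U.hom U.hom ((EtCoh.bc f).obj V)))

theorem c_w (V : S.Etale) : cT f j U V ≫ V.hom = cW f j U V ≫ U.hom ≫ f := (isPullback_c f j U V).w

theorem map_cT {V V' : S.Etale} (g : V ⟶ V') :
    ((compCF f j U).v.map g).left ≫ cT f j U V' = cT f j U V ≫ g.left := by
  unfold cT
  refine (Category.assoc _ _ _).symm.trans ?_
  refine (congrArg (· ≫ pr f V') (map_eT U.hom U.hom ((EtCoh.bc f).map g))).trans ?_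
  refine (Category.assoc _ _ _).trans ?_
  refine (congrArg (eT U.hom U.hom ((EtCoh.bc f).obj V) ≫ ·) (bc_map_left_pr f g)).trans ?_
  exact (Category.assoc _ _ _).symm

theorem map_cW {V V' : S.Etale} (g : V ⟶ V') :
    ((compCF f j U).v.map g).left ≫ cW f j U V' = cW f j U V :=
  map_eW U.hom U.hom ((EtCoh.bc f).map g)

theorem c_hom_ext {V : S.Etale} {W : Y.Etale} {a b : W ⟶ (compCF f j U).v.obj V}
    (h1 : a.left ≫ cT f j U V = b.left ≫ cT f j U V)
    (h2 : a.left ≫ cW f j U V = b.left ≫ cW f j U V) : a = b :=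
  MorphismProperty.Over.Hom.ext ((isPullback_c f j U V).hom_ext h1 h2)

/-- `(V ×_S X) ×_X U ⟶ V ×_S U`. -/
def thApp (V : S.Etale) : (compCF f j U).v.obj V ⟶ (eCF f j U).v.obj V :=
  eLift (U.hom ≫ f) (U.hom ≫ j) (cW f j U V) (cW_j f j U V) (cT f j U V) (c_w f j U V)

theorem thApp_eT (V : S.Etale) : (thApp f j U V).left ≫ eT (U.hom ≫ f) (U.hom ≫ j) V =
    cT f j U V := eLift_eT _ _ _ (cW_j f j U V) _ (c_w f j U V)

theorem thApp_eW (V : S.Etale) : (thApp f j U V).left ≫ eW (U.hom ≫ f) (U.hom ≫ j) V =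
    cW f j U V := eLift_eW _ _ _ (cW_j f j U V) _ (c_w f j U V)

theorem isPullback_lift_left (V : S.Etale) :
    ((isPullback_c f j U V).lift (eT (U.hom ≫ f) (U.hom ≫ j) V) (eW (U.hom ≫ f) (U.hom ≫ j) V)
      (e_w (U.hom ≫ f) (U.hom ≫ j) V)) ≫ ((compCF f j U).v.obj V).hom =
      ((eCF f j U).v.obj V).hom := by
  rw [← cW_j, ← Category.assoc]
  refine (congrArg (· ≫ U.hom ≫ j) ((isPullback_c f j U V).lift_snd _ _ _)).trans ?_
  exact eW_w (U.hom ≫ f) (U.hom ≫ j) V

/-- `V ×_S U ⟶ (V ×_S X) ×_X U`. -/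
def thInv (V : S.Etale) : (eCF f j U).v.obj V ⟶ (compCF f j U).v.obj V :=
  MorphismProperty.Over.homMk ((isPullback_c f j U V).lift (eT (U.hom ≫ f) (U.hom ≫ j) V)
    (eW (U.hom ≫ f) (U.hom ≫ j) V) (e_w (U.hom ≫ f) (U.hom ≫ j) V))
    (isPullback_lift_left f j U V) trivial

theorem thInv_cT (V : S.Etale) : (thInv f j U V).left ≫ cT f j U V =
    eT (U.hom ≫ f) (U.hom ≫ j) V := (isPullback_c f j U V).lift_fst _ _ _

theorem thInv_cW (V : S.Etale) : (thInv f j U V).left ≫ cW f j U V =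
    eW (U.hom ≫ f) (U.hom ≫ j) V := (isPullback_c f j U V).lift_snd _ _ _

/-- `(V ×_S X) ×_X U ≅ V ×_S U`, natural in `V`. -/
def thIso : (compCF f j U).v ≅ (eCF f j U).v :=
  NatIso.ofComponents (fun V =>
    { hom := thApp f j U V
      inv := thInv f j U V
      hom_inv_id := by
        apply c_hom_ext
        · refine (Category.assoc _ _ _).trans ?_
          refine (congrArg ((thApp f j U V).left ≫ ·) (thInv_cT f j U V)).trans ?_
          exact (thApp_eT f j U V).trans (Category.id_comp _).symm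
        · refine (Category.assoc _ _ _).trans ?_
          refine (congrArg ((thApp f j U V).left ≫ ·) (thInv_cW f j U V)).trans ?_
          exact (thApp_eW f j U V).trans (Category.id_comp _).symm
      inv_hom_id := by
        apply e_hom_ext
        · refine (Category.assoc _ _ _).trans ?_
          refine (congrArg ((thInv f j U V).left ≫ ·) (thApp_eT f j U V)).trans ?_
          exact (thInv_cT f j U V).trans (Category.id_comp _).symm
        · refine (Category.assoc _ _ _).trans ?_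
          refine (congrArg ((thInv f j U V).left ≫ ·) (thApp_eW f j U V)).trans ?_
          exact (thInv_cW f j U V).trans (Category.id_comp _).symm })
    (fun {V V'} g => by
      apply e_hom_ext
      · refine (Category.assoc _ _ _).trans ?_
        refine (congrArg (((compCF f j U).v.map g).left ≫ ·) (thApp_eT f j U V')).trans ?_
        refine (map_cT f j U g).trans ?_
        symm
        refine (Category.assoc _ _ _).trans ?_
        refine (congrArg ((thApp f j U V).left ≫ ·) (map_eT (U.hom ≫ f) (U.hom ≫ j) g)).trans ?_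
        refine (Category.assoc _ _ _).symm.trans ?_
        exact congrArg (· ≫ g.left) (thApp_eT f j U V)
      · refine (Category.assoc _ _ _).trans ?_
        refine (congrArg (((compCF f j U).v.map g).left ≫ ·) (thApp_eW f j U V')).trans ?_
        refine (map_cW f j U g).trans ?_
        symm
        refine (Category.assoc _ _ _).trans ?_
        refine (congrArg ((thApp f j U V).left ≫ ·) (map_eW (U.hom ≫ f) (U.hom ≫ j) g)).trans ?_
        exact thApp_eW f j U V)

theorem thIso_hom_app (V : S.Etale) : (thIso f j U).hom.app V = thApp f j U V := rfl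

/-- Functoriality in `U` of `(V ×_S X) ×_X U`. -/
def cNT {U U' : X.Etale} (g : U' ⟶ U) : (compCF f j U').v ⟶ (compCF f j U).v :=
  Functor.whiskerRight (Functor.whiskerLeft (EtCoh.bc f) (thU g)) (EtShriek.compEtale j)

theorem cNT_cT {U U' : X.Etale} (g : U' ⟶ U) (V : S.Etale) :
    ((cNT f j g).app V).left ≫ cT f j U V = cT f j U' V := by
  have h : ((cNT f j g).app V).left ≫ eT U.hom U.hom ((EtCoh.bc f).obj V) =
      eT U'.hom U'.hom ((EtCoh.bc f).obj V) :=
    congrArg (fun k => k.left) (thU_V g ((EtCoh.bc f).obj V))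
  exact (Category.assoc _ _ _).symm.trans (congrArg (· ≫ pr f V) h)

theorem cNT_cW {U U' : X.Etale} (g : U' ⟶ U) (V : S.Etale) :
    ((cNT f j g).app V).left ≫ cW f j U V = cW f j U' V ≫ g.left :=
  congrArg (fun k => k.left) (thU_U g ((EtCoh.bc f).obj V))

theorem gw {U U' : X.Etale} (g : U' ⟶ U) {Z : Scheme.{u}} (k : X ⟶ Z) :
    g.left ≫ U.hom ≫ k = U'.hom ≫ k := by
  rw [← Category.assoc, et_w]

/-- Functoriality in `U` of `V ×_S U`. -/
def eNT {U U' : X.Etale} (g : U' ⟶ U) : (eCF f j U').v ⟶ (eCF f j U).v :=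
  xNT (U'.hom ≫ f) (U'.hom ≫ j) (U.hom ≫ f) (U.hom ≫ j) g.left (gw g j) (gw g f)

theorem cNT_thIso {U U' : X.Etale} (g : U' ⟶ U) :
    cNT f j g ≫ (thIso f j U).hom = (thIso f j U').hom ≫ eNT f j g := by
  apply NatTrans.ext
  funext V
  apply e_hom_ext
  · refine (Category.assoc _ _ _).trans ?_
    refine (congrArg (((cNT f j g).app V).left ≫ ·) (thApp_eT f j U V)).trans ?_
    refine (cNT_cT f j g V).trans ?_
    symm
    refine (Category.assoc _ _ _).trans ?_
    refine (congrArg ((thApp f j U' V).left ≫ ·)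
      (xApp_eT (U'.hom ≫ f) (U'.hom ≫ j) (U.hom ≫ f) (U.hom ≫ j) g.left (gw g j) (gw g f) V)).trans ?_
    exact thApp_eT f j U' V
  · refine (Category.assoc _ _ _).trans ?_
    refine (congrArg (((cNT f j g).app V).left ≫ ·) (thApp_eW f j U V)).trans ?_
    refine (cNT_cW f j g V).trans ?_
    symm
    refine (Category.assoc _ _ _).trans ?_
    refine (congrArg ((thApp f j U' V).left ≫ ·)
      (xApp_eW (U'.hom ≫ f) (U'.hom ≫ j) (U.hom ≫ f) (U.hom ≫ j) g.left (gw g j) (gw g f) V)).trans ?_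
    refine (Category.assoc _ _ _).symm.trans ?_
    exact congrArg (· ≫ g.left) (thApp_eW f j U' V)

theorem eNT_thInv {U U' : X.Etale} (g : U' ⟶ U) :
    eNT f j g ≫ (thIso f j U).inv = (thIso f j U').inv ≫ cNT f j g := by
  rw [Iso.comp_inv_eq, Category.assoc, cNT_thIso, Iso.inv_hom_id_assoc]

section Sheaf

variable {n : ℕ} (E : EtCoh.Ab S) (ω : EtModW.Mod (Lam.{u} n) X)
  (κ : (EtCoh.pull f).obj E ⟶ (ab (Lam.{u} n) X).obj ω)

/-- The isomorphism `(j u)_! (f u)^* E ≅ j_! u_! u^* f^* E`. -/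
def thE : (eCF f j U).L.obj E ⟶
    (EtShriek.extZero j).obj ((AU U).L.obj ((EtCoh.pull f).obj E)) :=
  (CF.tr (thIso f j U).inv).app E

instance isIso_thE : IsIso (thE f j U E) := isIso_tr (thIso f j U).inv E

theorem thE_naturality {U U' : X.Etale} (g : U' ⟶ U) :
    xM (U'.hom ≫ f) (U'.hom ≫ j) (U.hom ≫ f) (U.hom ≫ j) g.left (gw g j) (gw g f) E ≫
        thE f j U E =
      thE f j U' E ≫
        (EtShriek.extZero j).map ((CF.tr (thU g)).app ((EtCoh.pull f).obj E)) := by
  have h1 : (CF.tr (cNT f j g)).app E =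
      (EtShriek.extZero j).map ((CF.tr (thU g)).app ((EtCoh.pull f).obj E)) := by
    have e1 := map_tr (A := (pullCF f).comp (AU U')) (B := (pullCF f).comp (AU U)) (shCF j)
      (Functor.whiskerLeft (EtCoh.bc f) (thU g)) E
    have e2 := tr_app_obj (A := AU U') (B := AU U) (pullCF f) (thU g) E
    refine e1.symm.trans ?_
    exact congrArg (EtShriek.extZero j).map e2.symm
  have h2 : (CF.tr (eNT f j g)).app E ≫ (CF.tr (thIso f j U).inv).app E =
      (CF.tr (thIso f j U').inv).app E ≫ (CF.tr (cNT f j g)).app E := by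
    refine (tr_comp _ _ E).trans (Eq.trans ?_ (tr_comp _ _ E).symm)
    exact congrArg (fun k => (CF.tr k).app E) (eNT_thInv f j g)
  exact h2.trans (congrArg ((CF.tr (thIso f j U').inv).app E ≫ ·) h1)

/-- The morphism `(j u)_! (f u)^* E ⟶ j_! (ω ⊗ Λ[U])`. -/
def nu : (eCF f j U).L.obj E ⟶
    (EtShriek.extZero j).obj ((ab (Lam.{u} n) X).obj (TT ω (LFree.LM (Lam.{u} n) U))) :=
  thE f j U E ≫ (EtShriek.extZero j).map ((AU U).L.map κ ≫ mU ω U)

theorem isIso_nu [IsIso κ] (hU : IsIso (mU ω U)) : IsIso (nu f j U E ω κ) := by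
  unfold nu
  infer_instance

/-- Naturality. -/
theorem nu_naturality {U U' : X.Etale} (g : U' ⟶ U) :
    xM (U'.hom ≫ f) (U'.hom ≫ j) (U.hom ≫ f) (U.hom ≫ j) g.left (gw g j) (gw g f) E ≫
        nu f j U E ω κ =
      nu f j U' E ω κ ≫ (EtShriek.extZero j).map ((ab (Lam.{u} n) X).map
        (((EtModD.tensorBi (Lam.{u} n) X).obj ω).map (LFree.map g))) := by
  have h3 : (CF.tr (thU g)).app ((EtCoh.pull f).obj E) ≫ (AU U).L.map κ =
      (AU U').L.map κ ≫ (CF.tr (thU g)).app ((ab (Lam.{u} n) X).obj ω) :=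
    ((CF.tr (thU g)).naturality κ).symm
  unfold nu
  rw [← Category.assoc, thE_naturality, Category.assoc, Category.assoc, ← Functor.map_comp,
    ← Functor.map_comp, ← Category.assoc, h3, Category.assoc, mU_naturality, Category.assoc]

end Sheaf

end

end Groth.Agent.Etdl.H425.NuMap
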