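import Groth.Agent.Etdl.H425.HB
import Groth.Agent.Sga4B.DiagM5
import Groth.Agent.Sga4B.TorsionStalks

/-!
# Elementwise proper base change for the groups `HB`

`f : X ⟶ Y` proper, `F` torsion:
* `exists_ext`: every class on the fibre at a geometric point `ξ` extends to an étale neighbourhood;
* `dies`: for ANY `t : T ⟶ Y`, a class in `H^n(T ×_Y X, F)` whose restriction to the fibre at a geometric
  point `x` of `T` vanishes dies on an étale neighbourhood of `x`.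
-/

set_option autoImplicit false
universe u
open CategoryTheory CategoryTheory.Limits AlgebraicGeometry Opposite Abelian
open scoped Groth.Agent.Etcore.EtInst
open Groth.Agent.Etcore.EtInst

namespace Groth.Agent.Etdl.H425.PbcEl

open Groth.Agent.Etcore.HQ Groth.Agent.Etcore.RpushLoc Groth.Agent.Etdl.H425.Chi
  Groth.Agent.Etdl.H425.HB Groth.Agent.Etcore.HpullCalc Groth.Agent.Etcore.PullCoh
open Groth.Agent.EtpbcB.Big Groth.Agent.Sga4B.DualShape Groth.Agent.EtpbcA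

attribute [local instance] Groth.Agent.Etcore.HQ.pfl

section Gen

variable {X : Scheme.{u}}

/-- The generator of `ℤ_W`. -/
noncomputable def gs (W : X.Etale) : EtCoh.sect (ZS W) W := Jshriek.univ W ℤ 1

theorem map_gs {W W' : X.Etale} (g : W' ⟶ W) :
    (ZSmap g).hom.app (op W') (gs W') = (ZS W).obj.map g.op (gs W) :=
  jMap_univ ℤ g 1

/-- The class of the generator in degree `0`. -/
noncomputable def c0 (X : Scheme.{u}) : HH X (ZS (EtCoh.top X)) 0 :=
  Ext.mk₀ (Groth.Agent.Sga4B.JFComp.topIso ℤ X).inv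

theorem H0_c0 (X : Scheme.{u}) : H0 X (ZS (EtCoh.top X)) (c0 X) = gs (EtCoh.top X) := by
  unfold c0
  rw [H0_mk₀]
  have h := ((EtCore.constAdj X).homEquiv _ _).apply_symm_apply
    (AddCommGrpCat.ofHom ((Jshriek.univ (EtCoh.top X) ℤ).comp
      (AddEquiv.ulift.{0, u + 1}.toAddMonoidHom)))
  exact congrArg (fun k => k.hom (ULift.up (1 : ℤ))) h

/-- From cohomology to `Ext(ℤ_X, -)`. -/
noncomputable def cin {F : EtCoh.Ab X} {n : ℕ} (u : HH X F n) : Ext.{u + 1} (ZS (EtCoh.top X)) F n :=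
  (Ext.mk₀ (Groth.Agent.Sga4B.JFComp.topIso ℤ X).hom).comp u (zero_add n)

theorem c0_cin {F : EtCoh.Ab X} {n : ℕ} (u : HH X F n) :
    (c0 X).comp (cin u) (zero_add n) = u := by
  unfold c0 cin
  rw [Ext.mk₀_comp_mk₀_assoc, Iso.inv_hom_id, Ext.mk₀_id_comp]

theorem cin_c0 {F : EtCoh.Ab X} {n : ℕ} (e : Ext.{u + 1} (ZS (EtCoh.top X)) F n) :
    cin ((c0 X).comp e (zero_add n)) = e := by
  unfold c0 cin
  rw [Ext.mk₀_comp_mk₀_assoc, Iso.hom_inv_id, Ext.mk₀_id_comp]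

/-- `hp` and products. -/
theorem hp_comp_ext {Z : Scheme.{u}} (k : Z ⟶ X) {P F : EtCoh.Ab X} {n : ℕ} (c : HH X P 0)
    (y : Ext.{u + 1} P F n) :
    hp k F n (c.comp y (zero_add n)) = yo k (hp k P 0 c) y (zero_add n) :=
  Groth.Agent.Etcore.ExtMap.extMap_comp (EtCoh.pull k) (EtCore.pullConst k ℤ).inv (zero_add n) c y

theorem hp_c0 {Z : Scheme.{u}} (k : Z ⟶ X) :
    hp k (ZS (EtCoh.top X)) 0 (c0 X) =
      sec (ZS (EtCoh.top X)) k (W := EtCoh.top X) k (Category.comp_id k) (gs (EtCoh.top X)) := by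
  apply (H0 Z _).injective
  have h1 := hp_zero k (ZS (EtCoh.top X)) (c0 X)
  have h2 := H0_sec (ZS (EtCoh.top X)) k (W := EtCoh.top X) k (Category.comp_id k) (gs (EtCoh.top X))
  refine h1.trans (Eq.trans ?_ h2.symm)
  have h3 := unitSec_apply k (ZS (EtCoh.top X)) (gs (EtCoh.top X))
  exact (congrArg (Etcore.HpullCalc.unitSec k (ZS (EtCoh.top X))).hom (H0_c0 X)).trans h3

/-- Pullback of classes in terms of `chi`. -/
theorem hp_eq_chi {Z : Scheme.{u}} (k : Z ⟶ X) {F : EtCoh.Ab X} {n : ℕ} (u : HH X F n) :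
    hp k F n u = chi (W := EtCoh.top X) (gs (EtCoh.top X)) k (Category.comp_id k) F n (cin u) := by
  have h := hp_comp_ext k (c0 X) (cin u)
  rw [c0_cin, hp_c0] at h
  exact h

end Gen

section Fib

variable {X Y X₀ : Scheme.{u}} (f : X ⟶ Y) {Ω : Type u} [Field Ω] (ξ : Spec (.of Ω) ⟶ Y)
  (a : X₀ ⟶ Spec (.of Ω)) (i : X₀ ⟶ X) (w : i ≫ f = a ≫ ξ)

theorem zfib_c0 {U : Y.Etale} (l : Spec (.of Ω) ⟶ U.left) (hl : l ≫ U.hom = ξ) :
    HHmap (Groth.Agent.Sga4B.DiagM5.zfib f ξ a i w l hl) 0 (c0 X₀) =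
      sec (ZS ((EtCoh.bc f).obj U)) i (Groth.Agent.Sga4B.DiagM5.secInc f ξ a i w l hl)
        (Groth.Agent.Sga4B.DiagM5.secInc_hom f ξ a i w l hl) (gs ((EtCoh.bc f).obj U)) := by
  apply (H0 X₀ _).injective
  rw [H0_map, H0_sec, H0_c0]
  have h := Groth.Agent.Sga4B.DiagM5.zeta_ev i
    (Groth.Agent.Sga4B.DiagM5.sec f ξ a i w l hl) (𝟙 (ZS ((EtCoh.bc f).obj U)))
  rw [CategoryTheory.Functor.map_id, Category.comp_id] at h
  exact h

/-- The restriction `fibRes` in terms of `chi`. -/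
theorem fibRes_eq_chi {U : Y.Etale} (l : Spec (.of Ω) ⟶ U.left) (hl : l ≫ U.hom = ξ)
    {G : EtCoh.Ab X} {m : ℕ} (δ : Ext.{u + 1} (ZS ((EtCoh.bc f).obj U)) G m) :
    (c0 X₀).comp (Groth.Agent.Sga4B.DiagM5.fibRes f ξ a i w l hl δ) (zero_add m) =
      chi (gs ((EtCoh.bc f).obj U)) (Groth.Agent.Sga4B.DiagM5.secInc f ξ a i w l hl)
        (Groth.Agent.Sga4B.DiagM5.secInc_hom f ξ a i w l hl) G m δ := by
  rw [chi_apply, ← zfib_c0 f ξ a i w l hl]
  unfold yo
  rw [HHmap_apply, Ext.comp_assoc_of_second_deg_zero]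

end Fib

section Main

variable {X Y : Scheme.{u}} (f : X ⟶ Y) [IsProper f] (F : EtCoh.Ab X) (hF : EtCoh.IsTorsion F)
  (n : ℕ) {Ω : Type u} [Field Ω] [IsSepClosed Ω]

include hF in
/-- Every class on the fibre extends to an étale neighbourhood. -/
theorem exists_ext {ξ : Spec (.of Ω) ⟶ Y} (e : HB f F ξ n) :
    ∃ (V : Y.Etale) (l : Spec (.of Ω) ⟶ V.left) (hl : l ≫ vh V = ξ) (x : HB f F (vh V) n),
      rb f F l hl n x = e := by
  obtain ⟨U, l, hl, δ, h⟩ := Groth.Agent.Sga4B.DiagM5.exists_extension f ξ (pullback.fst ξ f)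
    (pullback.snd ξ f) (IsPullback.of_hasPullback ξ f).flip hF (cin e)
  refine ⟨U, l, hl, chi (gs ((EtCoh.bc f).obj U)) (oi f U) (oi_pr f U) F n δ, ?_⟩
  have h1 := fibRes_eq_chi f ξ (pullback.fst ξ f) (pullback.snd ξ f) pullback.condition.symm l hl δ
  have h2 := (congrArg (fun y => (c0 _).comp y (zero_add n)) h).symm.trans h1
  rw [c0_cin] at h2
  rw [h2]
  refine res_chi _ (oi f U) (oi_pr f U) (bm f l hl) (bm_snd f l hl) _ _ ?_ n δ
  apply hom_ext_bc
  · rw [Category.assoc]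
    refine (congrArg (bm f l hl ≫ ·) (oi_fst f U)).trans ?_
    exact (bm_fst f l hl).trans
      (Groth.Agent.Sga4B.DiagM5.secInc_fst f ξ (pullback.fst ξ f) (pullback.snd ξ f)
        pullback.condition.symm l hl).symm
  · rw [Category.assoc]
    refine (congrArg (bm f l hl ≫ ·) (oi_pr f U)).trans ?_
    exact (bm_snd f l hl).trans
      (Groth.Agent.Sga4B.DiagM5.secInc_hom f ξ (pullback.fst ξ f) (pullback.snd ξ f)
        pullback.condition.symm l hl).symm

theorem res_eq_zero_iff {Z Z' : Scheme.{u}} {q : Z ⟶ X} {q' : Z' ⟶ X} (k : Z' ⟶ Z)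
    (h : k ≫ q = q') (x : HQ F q n) :
    res F k h n x = 0 ↔ hp k ((EtCoh.pull q).obj F) n x = 0 := by
  rw [res_apply]
  exact (HHmap_bijective (th k q q' h F) n).1.eq_iff' (map_zero _)

include hF in
/-- Classes over `T ×_Y X` which vanish on the fibre at a geometric point die on an étale
neighbourhood. -/
theorem dies {T : Scheme.{u}} (t : T ⟶ Y) (u : HB f F t n) (x : Spec (.of Ω) ⟶ T)
    (hx : rb f F x rfl n u = 0) :
    ∃ (V : T.Etale) (m : Spec (.of Ω) ⟶ V.left), m ≫ vh V = x ∧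
      rb f F (vh V) rfl n u = 0 := by
  let A := pullback t f
  let fT : A ⟶ T := pullback.fst t f
  let FT : EtCoh.Ab A := (EtCoh.pull (pullback.snd t f)).obj F
  have hFT : EtCoh.IsTorsion FT := Groth.Agent.Sga4B.TorsionStalks.isTorsion_pull _ hF
  let bT : (EtCoh.bc fT).obj (EtCoh.top T) ⟶ EtCoh.top A := (EtCore.topIsTerminal A).from _
  let δ : Ext.{u + 1} (ZS ((EtCoh.bc fT).obj (EtCoh.top T))) FT n :=
    (Ext.mk₀ (ZSmap bT)).comp (cin u) (zero_add n)
  have hx1 : hp (bm f x rfl) FT n u = 0 := (res_eq_zero_iff F n (bm f x rfl) _ u).1 hx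
  have hpb : IsPullback (bm f x rfl) (pullback.fst (x ≫ t) f) fT x := isPullback_bm f x rfl
  have hl : x ≫ (EtCoh.top T).hom = x := Category.comp_id x
  have hbT : bT.left = ((EtCoh.bc fT).obj (EtCoh.top T)).hom := by
    have := et_w bT
    exact (Category.comp_id _).symm.trans this
  have h1 := fibRes_eq_chi fT x (pullback.fst (x ≫ t) f) (bm f x rfl) hpb.w
    (U := EtCoh.top T) x hl δ
  have h2 : chi (gs ((EtCoh.bc fT).obj (EtCoh.top T)))
      (Groth.Agent.Sga4B.DiagM5.secInc fT x (pullback.fst (x ≫ t) f) (bm f x rfl) hpb.w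
        (U := EtCoh.top T) x hl)
      (Groth.Agent.Sga4B.DiagM5.secInc_hom fT x (pullback.fst (x ≫ t) f) (bm f x rfl) hpb.w
        (U := EtCoh.top T) x hl) FT n δ = hp (bm f x rfl) FT n u := by
    rw [hp_eq_chi]
    refine chi_precomp (W := EtCoh.top A) _ _ _ bT (map_gs bT) _ _ _ _ ?_ n (cin u)
    rw [hbT]
    exact Groth.Agent.Sga4B.DiagM5.secInc_hom fT x (pullback.fst (x ≫ t) f) (bm f x rfl) hpb.w
        (U := EtCoh.top T) x hl
  have h3 : Groth.Agent.Sga4B.DiagM5.fibRes fT x (pullback.fst (x ≫ t) f) (bm f x rfl) hpb.w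
      (U := EtCoh.top T) x hl δ = 0 := by
    have h4 := h1.trans (h2.trans hx1)
    have h5 := congrArg (fun y => cin (X := pullback (x ≫ t) f) y) h4
    have h6 := (cin_c0 (Groth.Agent.Sga4B.DiagM5.fibRes fT x (pullback.fst (x ≫ t) f)
      (bm f x rfl) hpb.w (U := EtCoh.top T) x hl δ)).symm.trans h5
    refine h6.trans ?_
    simp only [cin, Ext.comp_zero]
  obtain ⟨V, g, l', hl', hg, h7⟩ := Groth.Agent.Sga4B.DiagM5.dies_of_fibRes_eq_zero fT x
    (pullback.fst (x ≫ t) f) (bm f x rfl) hpb hFT (U := EtCoh.top T) x hl δ h3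
  refine ⟨V, l', hl', ?_⟩
  rw [rb, res_eq_zero_iff, hp_eq_chi]
  -- the map to the étale scheme `V ×_T A` over `A`
  let k : pullback (vh V ≫ t) f ⟶ ((EtCoh.bc fT).obj V).left :=
    pullback.lift (pullback.fst (vh V ≫ t) f) (bm f (vh V) rfl) (bm_fst f (vh V) rfl).symm
  have hk : k ≫ ((EtCoh.bc fT).obj V).hom = bm f (vh V) rfl := pullback.lift_snd _ _ _
  have h8 := congrArg (fun y => chi (gs ((EtCoh.bc fT).obj V)) k hk FT n y) h7
  rw [map_zero] at h8
  have h9 : (k ≫ ((EtCoh.bc fT).map g).left) ≫ ((EtCoh.bc fT).obj (EtCoh.top T)).hom =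
      bm f (vh V) rfl := by
    rw [Category.assoc, bc_map_hom]
    exact hk
  have h10 := chi_precomp _ _ _ ((EtCoh.bc fT).map g) (map_gs _) k hk
    (k ≫ ((EtCoh.bc fT).map g).left) h9 rfl n δ
  have h11 := h10.symm.trans h8
  refine Eq.trans ?_ h11
  refine (chi_precomp (W := EtCoh.top A) _ _ _ bT (map_gs bT)
    (k ≫ ((EtCoh.bc fT).map g).left) h9 _ _ ?_ n (cin u)).symm
  rw [hbT]
  exact h9

end Main

end Groth.Agent.Etdl.H425.PbcEl
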