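import Groth.Agent.Etdl.H425.Chi
import Groth.Agent.Etcore.RpushLoc
import Groth.Agent.Sga4B.RpushSec930

/-!
# Sections of `R^n f_* F` and classes in `H^n(V ×_Y X, F)`

`rsec f F n V : H^n(V ×_Y X, F) →+ (R^n f_* F)(V)`, with `rsec_res`, `map_rsec`, `rsec_eq_zero`
(a class whose section vanishes is locally zero) and `exists_rsec` (every section comes locally from a class).
-/

set_option autoImplicit false
universe u
open CategoryTheory CategoryTheory.Limits AlgebraicGeometry Opposite Abelian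
open scoped Groth.Agent.Etcore.EtInst
open Groth.Agent.Etcore.EtInst

namespace Groth.Agent.Etdl.H425.RSec

open Groth.Agent.Etcore.HQ Groth.Agent.Etcore.RpushLoc Groth.Agent.Etdl.H425.Chi
open Groth.Agent.CurvesA

variable {X Y : Scheme.{u}} (f : X ⟶ Y) (F : EtCoh.Ab X) (n : ℕ)

/-- The universal section of the free sheaf on `W`. -/
noncomputable def gz (W : X.Etale) : EtCoh.sect ((SiteZU.ZU.{u + 1} X.smallEtaleTopology).obj W) W :=
  SiteZU.univ.{u + 1} W

theorem gz_bijective (W : X.Etale) (G : EtCoh.Ab X) : Function.Bijective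
    (fun φ : (SiteZU.ZU.{u + 1} X.smallEtaleTopology).obj W ⟶ G =>
      (φ.hom.app (op W) (gz W) : EtCoh.sect G W)) :=
  (SiteZU.evEquiv.{u + 1} W G).bijective

theorem map_gz {W W' : X.Etale} (g : W' ⟶ W) :
    ((SiteZU.ZU.{u + 1} X.smallEtaleTopology).map g).hom.app (op W') (gz W') =
      ((SiteZU.ZU.{u + 1} X.smallEtaleTopology).obj W).obj.map g.op (gz W) :=
  SiteZU.ev_map.{u + 1} g

/-- `Ext^n(ℤ[V ×_Y X], F) = H^n(V ×_Y X, F)`. -/
noncomputable def chiE (V : Y.Etale) :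
    Ext.{u + 1} ((SiteZU.ZU.{u + 1} X.smallEtaleTopology).obj ((EtCoh.bc f).obj V)) F n ≃+
      HQ F (pr f V) n :=
  AddEquiv.ofBijective (chi (gz ((EtCoh.bc f).obj V)) (𝟙 _) (Category.id_comp _) F n)
    (chi_bijective _ (gz_bijective _) F n)

theorem chiE_apply (V : Y.Etale)
    (x : Ext.{u + 1} ((SiteZU.ZU.{u + 1} X.smallEtaleTopology).obj ((EtCoh.bc f).obj V)) F n) :
    chiE f F n V x = chi (gz ((EtCoh.bc f).obj V)) (𝟙 _) (Category.id_comp _) F n x := rfl

theorem res_chiE {V W : Y.Etale} (g : W ⟶ V)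
    (x : Ext.{u + 1} ((SiteZU.ZU.{u + 1} X.smallEtaleTopology).obj ((EtCoh.bc f).obj V)) F n) :
    res F (mm f g) (mm_pr f g) n (chiE f F n V x) =
      chiE f F n W ((Ext.mk₀ ((SiteZU.ZU.{u + 1} X.smallEtaleTopology).map
        ((EtCoh.bc f).map g))).comp x (zero_add n)) := by
  rw [chiE_apply, chiE_apply]
  refine (res_chi _ (𝟙 _) (Category.id_comp _) (mm f g) (mm_pr f g) (mm f g) (mm_pr f g)
    (Category.comp_id _) n x).trans ?_
  exact (chi_precomp _ _ _ ((EtCoh.bc f).map g) (map_gz _) (𝟙 _) (Category.id_comp _)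
    (mm f g) (mm_pr f g) (Category.id_comp _) n x).symm

theorem chiE_map {G : EtCoh.Ab X} (φ : F ⟶ G) (V : Y.Etale)
    (x : Ext.{u + 1} ((SiteZU.ZU.{u + 1} X.smallEtaleTopology).obj ((EtCoh.bc f).obj V)) F n) :
    chiE f G n V (x.comp (Ext.mk₀ φ) (add_zero n)) = map φ (pr f V) n (chiE f F n V x) := by
  rw [chiE_apply, chiE_apply]
  exact chi_map _ φ _ _ n x

/-- The section of `R^n f_* F` over `V` attached to a class in `H^n(V ×_Y X, F)`. -/
noncomputable def rsec (V : Y.Etale) :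
    HQ F (pr f V) n →+ EtCoh.sect ((EtCoh.Rpush f n).obj F) V :=
  (Groth.Agent.Sga4B.RpushSec930.sec f n F V).comp (chiE f F n V).symm.toAddMonoidHom

theorem rsec_chiE (V : Y.Etale)
    (x : Ext.{u + 1} ((SiteZU.ZU.{u + 1} X.smallEtaleTopology).obj ((EtCoh.bc f).obj V)) F n) :
    rsec f F n V (chiE f F n V x) = Groth.Agent.Sga4B.RpushSec930.sec f n F V x :=
  congrArg (Groth.Agent.Sga4B.RpushSec930.sec f n F V) ((chiE f F n V).symm_apply_apply x)

theorem rsec_res {V W : Y.Etale} (g : W ⟶ V) (x : HQ F (pr f V) n) :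
    ((EtCoh.Rpush f n).obj F).obj.map g.op (rsec f F n V x) =
      rsec f F n W (res F (mm f g) (mm_pr f g) n x) := by
  obtain ⟨x, rfl⟩ := (chiE f F n V).surjective x
  rw [res_chiE, rsec_chiE, rsec_chiE]
  exact Groth.Agent.Sga4B.RpushSec930.sec_res f n F g x

theorem map_rsec {G : EtCoh.Ab X} (φ : F ⟶ G) (V : Y.Etale) (x : HQ F (pr f V) n) :
    ((EtCoh.Rpush f n).map φ).hom.app (op V) (rsec f F n V x) =
      rsec f G n V (map φ (pr f V) n x) := by
  obtain ⟨x, rfl⟩ := (chiE f F n V).surjective x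
  rw [← chiE_map, rsec_chiE, rsec_chiE]
  exact Groth.Agent.Sga4B.RpushSec930.map_sec f n F φ x

theorem rsec_eq_zero {V : Y.Etale} (x : HQ F (pr f V) n) (hx : rsec f F n V x = 0) :
    ∃ S ∈ Y.smallEtaleTopology V, ∀ (W : Y.Etale) (g : W ⟶ V), S g →
      res F (mm f g) (mm_pr f g) n x = 0 := by
  obtain ⟨x, rfl⟩ := (chiE f F n V).surjective x
  rw [rsec_chiE] at hx
  obtain ⟨S, hS, h⟩ := Groth.Agent.Sga4B.RpushSec930.exists_sieve_of_sec_eq_zero f n F x hx
  refine ⟨S, hS, fun W g hg => ?_⟩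
  rw [res_chiE]
  exact (congrArg (chiE f F n W) (h W g hg)).trans (map_zero _)

theorem exists_rsec {V : Y.Etale} (s : EtCoh.sect ((EtCoh.Rpush f n).obj F) V) :
    ∃ S ∈ Y.smallEtaleTopology V, ∀ (W : Y.Etale) (g : W ⟶ V), S g →
      ∃ x, rsec f F n W x = ((EtCoh.Rpush f n).obj F).obj.map g.op s := by
  obtain ⟨S, hS, h⟩ := Groth.Agent.Sga4B.RpushSec930.exists_sieve_sec_eq f n F s
  refine ⟨S, hS, fun W g hg => ?_⟩
  obtain ⟨x, hx⟩ := h W g hg
  exact ⟨chiE f F n W x, (rsec_chiE f F n W x).trans hx⟩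

end Groth.Agent.Etdl.H425.RSec
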