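import Groth.Agent.Etdl.H425.ClosedMod
import Groth.Agent.Etdl.H425.AbsAdj
import Mathlib.CategoryTheory.Preadditive.Injective.Preserves
import Mathlib.CategoryTheory.Limits.Preserves.Shapes.Kernels

/-!
# Sections with support in a closed subscheme: the right adjoint of `i_*` for sheaves of modules

Let `i : Z ⟶ X` be a closed immersion and `j : U ⟶ X` an open immersion with `range j = (range i)ᶜ`.
* `pushSecAdj : push Λ i ⊣ secSuppMod Λ j ⋙ pull Λ i`;
* `pullPushSecAdj : pull Λ i ⋙ push Λ i ⊣ secSuppMod Λ j`;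
* `injective_secSupp`: `secSuppMod Λ j` preserves injectives;
* `preservesFiniteColimits_push`: `i_*` is exact;
* `extZeroPushIso`: for a closed and open immersion `j`, `extZeroMod Λ j ≅ push Λ j`.
-/

set_option autoImplicit false
universe u
open CategoryTheory CategoryTheory.Limits AlgebraicGeometry Opposite

namespace Groth.Agent.Etdl.H425.SecSupp

open Groth.Agent.Etdl.H425.ClosedMod EtDl EtShriek

variable (Λ : Type (u + 1)) [CommRing Λ]

/-- The inclusion of the sections with support. -/
noncomputable def secι {X U : Scheme.{u}} (j : U ⟶ X) : secSuppMod Λ j ⟶ 𝟭 (EtModW.Mod Λ X) where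
  app F := kernel.ι (unitMod Λ j F)
  naturality _ _ _ := kernel.lift_ι _ _ _

theorem secι_app {X U : Scheme.{u}} (j : U ⟶ X) (F : EtModW.Mod Λ X) :
    (secι Λ j).app F = kernel.ι (unitMod Λ j F) := rfl

section

variable {Z X U : Scheme.{u}} (i : Z ⟶ X) [IsClosedImmersion i] (j : U ⟶ X) [IsOpenImmersion j]
  (hij : Set.range j.base = (Set.range i.base)ᶜ)

include hij

omit [IsClosedImmersion i] in
/-- The sheaf of sections with support in `Z` vanishes over etale schemes over the complement. -/
theorem isZero_secSupp_obj (F : EtModW.Mod Λ X) (V : X.Etale)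
    (hV : Disjoint (Set.range V.hom.base) (Set.range i.base)) :
    IsZero (((secSuppMod Λ j).obj F).obj.obj (op V)) := by
  have hV' : Set.range V.hom.base ⊆ Set.range j.base := by
    have h1 : Set.range V.hom.base ⊆ (Set.range i.base)ᶜ := Set.disjoint_left.1 hV
    exact h1.trans hij.symm.subset
  let η : F ⟶ (EtModW.push Λ j).obj ((EtModW.pull Λ j).obj F) := unitMod Λ j F
  have h1 : Mono (η.hom.app (op V)) := mono_unit_app_app j F V hV'
  let k : kernel η ⟶ F := kernel.ι η
  have h2 : Mono (k.hom.app (op V)) := by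
    have h0 : Mono k := inferInstanceAs (Mono (kernel.ι η))
    have : Mono ((sheafToPresheaf _ _).map k) := inferInstance
    have : Mono (((sheafToPresheaf _ _).map k).app (op V)) := inferInstance
    exact this
  have h3 : k.hom.app (op V) ≫ η.hom.app (op V) = 0 :=
    congrArg (fun m : kernel η ⟶ _ => m.hom.app (op V)) (kernel.condition η)
  have h4 : k.hom.app (op V) = 0 := by
    rw [← cancel_mono (η.hom.app (op V))]
    exact h3.trans zero_comp.symm
  have h5 : IsZero ((kernel η).obj.obj (op V)) := IsZero.of_mono_eq_zero (k.hom.app (op V)) h4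
  exact h5

/-- The unit of `i^* ⊣ i_*` is an isomorphism at `Γ_Z F`. -/
theorem isIso_unit_secSupp (F : EtModW.Mod Λ X) :
    IsIso ((pullPushModAdj Λ i).unit.app ((secSuppMod Λ j).obj F)) :=
  isIso_unit_app i _ (isZero_secSupp_obj Λ i j hij F)

omit [IsClosedImmersion i] in
theorem comp_unit_eq_zero (G : EtModW.Mod Λ Z) (F : EtModW.Mod Λ X)
    (φ : (EtModW.push Λ i).obj G ⟶ F) : φ ≫ unitMod Λ j F = 0 := by
  refine hom_push_eq_zero j _ (fun V hV => ?_) _ _
  refine isZero_push_obj i G V (Set.disjoint_left.2 fun x hx => ?_)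
  exact hij.subset (hV hx)

omit [IsClosedImmersion i] in
theorem bijective_comp_secι (G : EtModW.Mod Λ Z) (F : EtModW.Mod Λ X) :
    Function.Bijective (fun (ψ : (EtModW.push Λ i).obj G ⟶ (secSuppMod Λ j).obj F) =>
      ψ ≫ (secι Λ j).app F) := by
  refine ⟨fun a b h => ?_, fun φ => ?_⟩
  · have : Mono ((secι Λ j).app F) := inferInstanceAs (Mono (kernel.ι (unitMod Λ j F)))
    exact (cancel_mono _).1 h
  · exact ⟨kernel.lift (unitMod Λ j F) φ (comp_unit_eq_zero Λ i j hij G F φ), kernel.lift_ι _ _ _⟩

/-- `i_* ⊣ i^* Γ_Z`. -/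
noncomputable def pushSecAdj : EtModW.push Λ i ⊣ secSuppMod Λ j ⋙ EtModW.pull Λ i :=
  have := push_full Λ i
  have := push_faithful Λ i
  AbsAdj.adjunction (pullPushModAdj Λ i) (secι Λ j) (bijective_comp_secι Λ i j hij)
    (isIso_unit_secSupp Λ i j hij)

/-- `i_* i^* ⊣ Γ_Z`. -/
noncomputable def pullPushSecAdj : EtModW.pull Λ i ⋙ EtModW.push Λ i ⊣ secSuppMod Λ j :=
  have := push_full Λ i
  have := push_faithful Λ i
  AbsAdj.adjunction' (pullPushModAdj Λ i) (secι Λ j) (bijective_comp_secι Λ i j hij)
    (isIso_unit_secSupp Λ i j hij)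

/-- `Γ_Z` preserves injectives. -/
theorem injective_secSupp (I : EtModW.Mod Λ X) (hI : Injective I) : Injective ((secSuppMod Λ j).obj I) := by
  have h1 : PreservesFiniteLimits (EtModW.pull Λ i) :=
    Groth.Agent.Etrest.ModCons.preservesFiniteLimits_pull i
  have h2 : PreservesLimits (EtModW.push Λ i) := (pullPushModAdj Λ i).rightAdjoint_preservesLimits
  have h3 : PreservesFiniteLimits (EtModW.pull Λ i ⋙ EtModW.push Λ i) := comp_preservesFiniteLimits _ _
  have h4 : (EtModW.pull Λ i ⋙ EtModW.push Λ i).PreservesMonomorphisms := inferInstance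
  exact (pullPushSecAdj Λ i j hij).map_injective I hI

end

/-- The direct image along a closed immersion is exact. -/
theorem preservesFiniteColimits_push {Z X : Scheme.{u}} (i : Z ⟶ X) [IsClosedImmersion i] :
    PreservesFiniteColimits (EtModW.push Λ i) := by
  let V : X.Opens := ⟨(Set.range i.base)ᶜ, i.isClosedEmbedding.isClosed_range.isOpen_compl⟩
  have hV : Set.range V.ι.base = (Set.range i.base)ᶜ := Scheme.Opens.range_ι V
  have h : PreservesColimits (EtModW.push Λ i) := (pushSecAdj Λ i V.ι hV).leftAdjoint_preservesColimits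
  exact inferInstance

theorem preservesFiniteLimits_push {X Y : Scheme.{u}} (f : X ⟶ Y) :
    PreservesFiniteLimits (EtModW.push Λ f) := by
  have h2 : PreservesLimits (EtModW.push Λ f) := (pullPushModAdj Λ f).rightAdjoint_preservesLimits
  exact inferInstance

theorem isIso_kernel_ι_of_eq_zero {C : Type*} [Category* C] [HasZeroMorphisms C] {A B : C} {f : A ⟶ B}
    [HasKernel f] (hf : f = 0) : IsIso (kernel.ι f) :=
  ⟨kernel.lift f (𝟙 A) (by rw [Category.id_comp, hf]), by
    rw [← cancel_mono (kernel.ι f), Category.assoc, kernel.lift_ι, Category.comp_id, Category.id_comp],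
    kernel.lift_ι _ _ _⟩

section clopen

variable {Z X U : Scheme.{u}} (i : Z ⟶ X) [IsOpenImmersion i] (j : U ⟶ X)
  (hij : Set.range j.base = (Set.range i.base)ᶜ)

include hij

theorem isZero_restr_push (G : EtModW.Mod Λ U) : IsZero ((restrMod Λ i).obj ((EtModW.push Λ j).obj G)) := by
  have h : ∀ V : Z.Etale, IsZero (((restrMod Λ i).obj ((EtModW.push Λ j).obj G)).obj.obj (op V)) := by
    intro V
    refine isZero_push_obj j G ((compEtale i).obj V) ?_
    rw [Set.disjoint_left]
    rintro _ ⟨x, rfl⟩ hx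
    have := hij.subset hx
    exact this ⟨V.hom.base x, rfl⟩
  rw [IsZero.iff_id_eq_zero]
  apply Sheaf.hom_ext
  ext V : 2
  exact (h V.unop).eq_of_src _ _

theorem isIso_restr_secι (F : EtModW.Mod Λ X) : IsIso ((restrMod Λ i).map ((secι Λ j).app F)) := by
  have h1 : (restrMod Λ i).map (unitMod Λ j F) = 0 := (isZero_restr_push Λ i j hij _).eq_of_tgt _ _
  have hp : PreservesLimits (restrMod Λ i) := (extZeroModAdj Λ i).rightAdjoint_preservesLimits
  have h2 : kernelComparison (unitMod Λ j F) (restrMod Λ i) ≫ kernel.ι ((restrMod Λ i).map (unitMod Λ j F)) =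
    (restrMod Λ i).map (kernel.ι (unitMod Λ j F)) := kernelComparison_comp_ι _ _
  have h3 : IsIso (kernel.ι ((restrMod Λ i).map (unitMod Λ j F))) := isIso_kernel_ι_of_eq_zero h1
  have h4 : IsIso (kernelComparison (unitMod Λ j F) (restrMod Λ i) ≫
    kernel.ι ((restrMod Λ i).map (unitMod Λ j F))) := inferInstance
  rw [h2] at h4
  exact h4

end clopen

end Groth.Agent.Etdl.H425.SecSupp
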