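import Groth.Agent.EtpbcB.BCCrit
import Groth.Agent.Etdl.H440.FamGlue
import Groth.Agent.Etcore.LFree
import Groth.Agent.Etrest.ModAb

/-!
# Isomorphisms on the stalks at algebraically closed geometric points; `Λ[S'] ⟶ F`
-/

set_option autoImplicit false
set_option backward.isDefEq.respectTransparency.types false
universe u

open CategoryTheory CategoryTheory.Limits AlgebraicGeometry Opposite

namespace Groth.Agent.Etdl.H425.StkIso

open Groth.Agent.Etcore Groth.Agent.EtpbcB.Big Groth.Agent.Etrest.ModAb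
open Groth.Agent.Etdl.H440.FamGlue (exists_algPoint)

section Ab

variable {X : Scheme.{u}}

theorem common {Ω : Type u} [Field Ω] [IsSepClosed Ω] {ξ : Spec (.of Ω) ⟶ X} {V V' : X.Etale}
    (l : Spec (.of Ω) ⟶ V.left) (hl : l ≫ V.hom = ξ)
    (l' : Spec (.of Ω) ⟶ V'.left) (hl' : l' ≫ V'.hom = ξ) :
    ∃ (W : X.Etale) (g : W ⟶ V) (g' : W ⟶ V') (m : Spec (.of Ω) ⟶ W.left),
      m ≫ g.left = l ∧ m ≫ g'.left = l' := by
  let V2 : X.Etale := Scheme.Etale.mk (pullback.fst V.hom V'.hom ≫ V.hom)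
  refine ⟨V2, etHom (pullback.fst V.hom V'.hom) rfl,
    etHom (pullback.snd V.hom V'.hom) pullback.condition.symm,
    pullback.lift l l' (hl.trans hl'.symm), ?_, ?_⟩
  · exact pullback.lift_fst _ _ _
  · exact pullback.lift_snd _ _ _

/-- A morphism which is bijective on the stalks at algebraically closed geometric points is an isomorphism. -/
theorem isIso_of_algStalks {F G : EtCoh.Ab X} (φ : F ⟶ G)
    (h : ∀ (Ω : Type u) [Field Ω] [IsAlgClosed Ω] (ξ : Spec (.of Ω) ⟶ X),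
      Function.Bijective ((EtCoh.stalk ξ).map φ)) : IsIso φ := by
  apply EtpbcB.BCCrit.isIso_of_local
  · intro U s hs x
    obtain ⟨Ω, _, _, l, hl⟩ := exists_algPoint U.left x
    have h1 : (EtCoh.stalk (l ≫ U.hom)).map φ (germ F l rfl s) = 0 := by
      rw [stk_map_germ, hs]
      exact map_zero (germ G l rfl).hom
    have h2 : germ F l rfl s = 0 := by
      apply (h Ω (l ≫ U.hom)).1
      rw [h1]
      exact (map_zero ((EtCoh.stalk (l ≫ U.hom)).map φ).hom).symm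
    have h3 : germ F l rfl s = germ F l rfl (0 : EtCoh.sect F U) := by
      rw [h2]
      exact (map_zero (germ F l rfl).hom).symm
    obtain ⟨V, g, m, hm, e⟩ := (germ_eq_iff F l rfl s 0).1 h3
    refine ⟨V, g, m default, ?_, ?_⟩
    · rw [← hl, ← hm]
      rfl
    · rw [e]
      exact map_zero (F.obj.map g.op).hom
  · intro U t x
    obtain ⟨Ω, _, _, l, hl⟩ := exists_algPoint U.left x
    obtain ⟨σ, hσ⟩ := (h Ω (l ≫ U.hom)).2 (germ G l rfl t)
    obtain ⟨V, l', hl', s, rfl⟩ := exists_germ F σ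
    rw [stk_map_germ] at hσ
    obtain ⟨W, g, g', m, hm, hm'⟩ := common l rfl l' hl'
    have hmW : m ≫ W.hom = l ≫ U.hom := by rw [← et_w g, ← Category.assoc, hm]
    have h1 : germ G m hmW (G.obj.map g'.op (φ.hom.app (op V) s)) =
        germ G m hmW (G.obj.map g.op t) := by
      rw [germ_res' G g' m hmW l' hl' hm', germ_res' G g m hmW l rfl hm, hσ]
    obtain ⟨W', k, m', hk, e⟩ := (germ_eq_iff G m hmW _ _).1 h1
    refine ⟨W', k ≫ g, m' default, F.obj.map (k ≫ g').op s, ?_, ?_⟩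
    · rw [← hl, ← hm, ← hk]
      rfl
    · rw [et_map_map, et_map_map] at e
      refine Eq.trans ?_ e
      exact (ConcreteCategory.congr_hom (φ.hom.naturality (k ≫ g').op) s)

end Ab

section Basis

variable {n : ℕ} {S : Scheme.{u}} {Ω : Type u} [Field Ω] [IsSepClosed Ω]
  (ξ : Spec (.of Ω) ⟶ S) (S' : S.Etale)

/-- The coefficient ring. -/
abbrev Lam (n : ℕ) : Type (u + 1) := ULift.{u + 1} (ZMod n)

/-- The lifts of `ξ` to `S'`. -/
abbrev Lf : Type u := {s : Spec (.of Ω) ⟶ S'.left // s ≫ S'.hom = ξ}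

variable (F : EtModW.Mod (Lam.{u} n) S) (γ : EtModW.sect (Lam.{u} n) F S')

/-- `a ↦ germ_s (a γ)`. -/
noncomputable def b1 (s : Lf ξ S') : Lam.{u} n →+ Stk ((ab (Lam.{u} n) S).obj F) ξ :=
  (germ ((ab (Lam.{u} n) S).obj F) s.1 s.2).hom.comp
    (AddMonoidHom.mk' (fun a : Lam.{u} n => (a • γ : EtModW.sect (Lam.{u} n) F S'))
      (fun a b => add_smul a b γ))

theorem b1_apply (s : Lf ξ S') (a : Lam.{u} n) : b1 ξ S' F γ s a =
    germ ((ab (Lam.{u} n) S).obj F) s.1 s.2 (a • γ : EtModW.sect (Lam.{u} n) F S') := rfl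

/-- `∑ a_s [s] ↦ ∑ germ_s (a_s γ)`. -/
noncomputable def bm : (Lf ξ S' →₀ Lam.{u} n) →+ Stk ((ab (Lam.{u} n) S).obj F) ξ :=
  Finsupp.liftAddHom (fun s => b1 ξ S' F γ s)

theorem bm_single (s : Lf ξ S') (a : Lam.{u} n) : bm ξ S' F γ (Finsupp.single s a) =
    b1 ξ S' F γ s a := Finsupp.liftAddHom_apply_single _ _ _

variable {F} in
theorem bm_map {G : EtModW.Mod (Lam.{u} n) S} (φ : F ⟶ G) (x : Lf ξ S' →₀ Lam.{u} n) :
    (EtCoh.stalk ξ).map ((ab (Lam.{u} n) S).map φ) (bm ξ S' F γ x) =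
      bm ξ S' G (LVan.ev φ S' γ) x := by
  have h : ((EtCoh.stalk ξ).map ((ab (Lam.{u} n) S).map φ)).hom.comp (bm ξ S' F γ) =
      bm ξ S' G (LVan.ev φ S' γ) := by
    apply Finsupp.addHom_ext
    intro s a
    rw [AddMonoidHom.comp_apply, bm_single, bm_single, b1_apply, b1_apply]
    refine (stk_map_germ ((ab (Lam.{u} n) S).map φ) s.1 s.2 _).trans ?_
    exact congrArg (germ ((ab (Lam.{u} n) S).obj G) s.1 s.2) (map_smul (LVan.ev φ S') a γ)
  exact DFunLike.congr_fun h x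

theorem bm_gen_mapDomain {W : S.Etale} (m : Spec (.of Ω) ⟶ W.left) (hm : m ≫ W.hom = ξ)
    (c : (W ⟶ S') →₀ Lam.{u} n) :
    bm ξ S' (LFree.LM (Lam.{u} n) S') (LFree.gen (Lam.{u} n) S') (Finsupp.mapDomain
      (fun h : W ⟶ S' => (⟨m ≫ h.left, by rw [Category.assoc, et_w, hm]⟩ : Lf ξ S')) c) =
      germ ((ab (Lam.{u} n) S).obj (LFree.LM (Lam.{u} n) S')) m hm
        (LFree.sec (Lam.{u} n) S' c) := by
  let A : ((W ⟶ S') →₀ Lam.{u} n) →+ Stk ((ab (Lam.{u} n) S).obj (LFree.LM (Lam.{u} n) S')) ξ :=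
    (germ ((ab (Lam.{u} n) S).obj (LFree.LM (Lam.{u} n) S')) m hm).hom.comp
      (LFree.sec (Lam.{u} n) S' (V := W)).toAddMonoidHom
  let B : ((W ⟶ S') →₀ Lam.{u} n) →+ Stk ((ab (Lam.{u} n) S).obj (LFree.LM (Lam.{u} n) S')) ξ :=
    (bm ξ S' (LFree.LM (Lam.{u} n) S') (LFree.gen (Lam.{u} n) S')).comp
      (Finsupp.mapDomain.addMonoidHom (fun h : W ⟶ S' =>
        (⟨m ≫ h.left, by rw [Category.assoc, et_w, hm]⟩ : Lf ξ S')))
  have h : B = A := by
    apply Finsupp.addHom_ext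
    intro k a
    have e1 : B (Finsupp.single k a) = germ ((ab (Lam.{u} n) S).obj (LFree.LM (Lam.{u} n) S'))
        (m ≫ k.left) (by rw [Category.assoc, et_w, hm])
        (a • LFree.gen (Lam.{u} n) S' : EtModW.sect (Lam.{u} n) (LFree.LM (Lam.{u} n) S') S') := by
      refine (congrArg (bm ξ S' (LFree.LM (Lam.{u} n) S') (LFree.gen (Lam.{u} n) S'))
        Finsupp.mapDomain_single).trans ?_
      exact bm_single ξ S' (LFree.LM (Lam.{u} n) S') (LFree.gen (Lam.{u} n) S')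
        ⟨m ≫ k.left, by rw [Category.assoc, et_w, hm]⟩ a
    have e2 : A (Finsupp.single k a) = germ ((ab (Lam.{u} n) S).obj (LFree.LM (Lam.{u} n) S')) m hm
        (LFree.sec (Lam.{u} n) S' (Finsupp.single k a)) := rfl
    rw [e1, e2, LFree.sec_single, ← map_smul]
    exact (germ_res' _ k m hm (m ≫ k.left) (by rw [Category.assoc, et_w, hm]) rfl _).symm
  exact DFunLike.congr_fun h c

theorem bm_gen_surjective :
    Function.Surjective (bm ξ S' (LFree.LM (Lam.{u} n) S') (LFree.gen (Lam.{u} n) S')) := by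
  intro σ
  obtain ⟨V, l, hl, t, rfl⟩ := exists_germ _ σ
  obtain ⟨W, g, w, c, hw, hc⟩ := LFree.exists_sec S'
    (t : EtModW.sect (Lam.{u} n) (LFree.LM (Lam.{u} n) S') V) (l default)
  obtain ⟨m, hm, -⟩ := exists_lift g.left l w hw
  have hmW : m ≫ W.hom = ξ := by rw [← et_w g, ← Category.assoc, hm, hl]
  refine ⟨_, (bm_gen_mapDomain ξ S' m hmW c).trans ?_⟩
  rw [← hc]
  exact germ_res' _ g m hmW l hl hm t

/-- If the germs of `γ` form a basis of the stalks of `F`, then `Λ[S'] ⟶ F` is an isomorphism. -/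
theorem isIso_desc (h : ∀ (Ω : Type u) [Field Ω] [IsAlgClosed Ω] (ξ : Spec (.of Ω) ⟶ S),
    Function.Bijective (bm ξ S' F γ)) : IsIso (LFree.desc γ) := by
  have h1 : IsIso ((ab (Lam.{u} n) S).map (LFree.desc γ)) := by
    apply isIso_of_algStalks
    intro Ω _ _ ξ
    have h2 : ∀ x, (EtCoh.stalk ξ).map ((ab (Lam.{u} n) S).map (LFree.desc γ))
        (bm ξ S' (LFree.LM (Lam.{u} n) S') (LFree.gen (Lam.{u} n) S') x) = bm ξ S' F γ x := by
      intro x
      rw [bm_map, LFree.desc_gen]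
    constructor
    · intro a b hab
      obtain ⟨x, rfl⟩ := bm_gen_surjective ξ S' a
      obtain ⟨y, rfl⟩ := bm_gen_surjective ξ S' b
      rw [h2, h2] at hab
      rw [(h Ω ξ).1 hab]
    · intro b
      obtain ⟨x, rfl⟩ := (h Ω ξ).2 b
      exact ⟨_, h2 x⟩
  exact isIso_of_reflects_iso _ (ab (Lam.{u} n) S)

end Basis

end Groth.Agent.Etdl.H425.StkIso
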