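import Groth.Agent.Sga4h.HomSh
import Groth.Agent.Etcore.LFree

/-!
# The tensor product `N ⊗ Λ[U]`

* `tm s t` : the section `s ⊗ t` of `N ⊗ M`;
* `hom_ext_tm`, `descT`, `descT_tm`: morphisms `N ⊗ Λ[U] ⟶ H` are the same as sections over `U` of the internal
  Hom sheaf of `N` and `H`.
-/

set_option autoImplicit false
universe u

open CategoryTheory CategoryTheory.Limits MonoidalCategory Opposite TensorProduct AlgebraicGeometry

namespace Groth.Agent.Etdl.H425.TensGen

open Groth.Agent.Etcore Groth.Agent.Sga4h.HomSh Groth.Agent.Sga4h.HomPre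

variable {Λ : Type (u + 1)} [CommRing Λ] {X : Scheme.{u}}

/-- `N ⊗ M` -/
noncomputable abbrev TT (N M : EtModW.Mod Λ X) : EtModW.Mod Λ X := ((EtModD.tensorBi Λ X).obj N).obj M

variable {N M M' H : EtModW.Mod Λ X} {U W W' : X.Etale}

/-- The section `s ⊗ t`. -/
noncomputable def tm (s : EtModW.sect Λ N W) (t : EtModW.sect Λ M W) : EtModW.sect Λ (TT N M) W :=
  ((toSheafify X.smallEtaleTopology ((N.obj : X.Etaleᵒᵖ ⥤ ModuleCat.{u + 1} Λ) ⊗ M.obj)).app
    (op W)).hom (s ⊗ₜ[Λ] t)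

theorem res_tm (g : W' ⟶ W) (s : EtModW.sect Λ N W) (t : EtModW.sect Λ M W) :
    LVan.res (TT N M) g (tm s t) = tm (LVan.res N g s) (LVan.res M g t) := by
  have h1 := (toSheafify X.smallEtaleTopology
    ((N.obj : X.Etaleᵒᵖ ⥤ ModuleCat.{u + 1} Λ) ⊗ M.obj)).naturality g.op
  exact (ConcreteCategory.congr_hom h1 (s ⊗ₜ[Λ] t)).symm

theorem ev_map_tm (a : M ⟶ M') (s : EtModW.sect Λ N W) (t : EtModW.sect Λ M W) :
    LVan.ev (((EtModD.tensorBi Λ X).obj N).map a) W (tm s t) = tm s (LVan.ev a W t) := by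
  have h1 := congrArg (fun k => k.app (op W)) (toSheafify_naturality X.smallEtaleTopology
    ((N.obj : X.Etaleᵒᵖ ⥤ ModuleCat.{u + 1} Λ) ◁ a.hom))
  exact (ConcreteCategory.congr_hom h1 (s ⊗ₜ[Λ] t)).symm

theorem hev_homEquiv (φ : TT N M ⟶ H) (q : EtModW.sect Λ M W) (g : W' ⟶ W)
    (p : EtModW.sect Λ N W') :
    (hev (A := N) (H := H) (LVan.ev ((homShAdj N).homEquiv M H φ) W q) g).hom p =
      LVan.ev φ W' (tm p (LVan.res M g q)) := rfl

/-- Morphisms out of `N ⊗ Λ[U]`. -/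
theorem hom_ext_tm {α β : TT N (LFree.LM Λ U) ⟶ H}
    (h : ∀ (W : X.Etale) (g : W ⟶ U) (s : EtModW.sect Λ N W),
      LVan.ev α W (tm s (LVan.res (LFree.LM Λ U) g (LFree.gen Λ U))) =
        LVan.ev β W (tm s (LVan.res (LFree.LM Λ U) g (LFree.gen Λ U)))) : α = β := by
  apply ((homShAdj N).homEquiv _ _).injective
  apply LFree.hom_ext
  refine ext_ev (A := N.obj) (H := H.obj) (W := U) (fun W g => ?_)
  apply ModuleCat.hom_ext
  apply LinearMap.ext
  intro s
  exact (hev_homEquiv α (LFree.gen Λ U) g s).trans ((h W g s).trans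
    (hev_homEquiv β (LFree.gen Λ U) g s).symm)

/-- The morphism `N ⊗ Λ[U] ⟶ H` attached to a section of the internal Hom. -/
noncomputable def descT (u : (homSh N H).obj.obj (op U)) : TT N (LFree.LM Λ U) ⟶ H :=
  ((homShAdj N).homEquiv _ _).symm (LFree.desc (F := homSh N H) u)

theorem descT_tm (u : (homSh N H).obj.obj (op U)) (g : W ⟶ U) (s : EtModW.sect Λ N W) :
    LVan.ev (descT u) W (tm s (LVan.res (LFree.LM Λ U) g (LFree.gen Λ U))) = (hev u g).hom s := by
  have h1 : (homShAdj N).homEquiv _ _ (descT u) = LFree.desc (F := homSh N H) u :=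
    Equiv.apply_symm_apply _ _
  have h2 := hev_homEquiv (descT u) (LFree.gen Λ U) g s
  refine h2.symm.trans ?_
  have h3 : LVan.ev ((homShAdj N).homEquiv _ _ (descT u)) U (LFree.gen Λ U) = u := by
    rw [h1]
    exact LFree.desc_gen (F := homSh N H) u
  exact congrArg (fun k => (hev (A := N) (H := H) k g).hom s) h3

end Groth.Agent.Etdl.H425.TensGen
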