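import Groth.Agent.Etdl.H426.Cover

/-!
# `R^N f_!` is a left adjoint in the top degree

`R^N f_!` (sheaves of `Λ`-modules) is right exact if `R^{N+1} f_! = 0`; it commutes with direct sums, hence has a
right adjoint.
-/

set_option autoImplicit false
universe u w

open CategoryTheory CategoryTheory.Limits AlgebraicGeometry Opposite

namespace Groth.Agent.Etdl.H425.TrColim

open Groth.Agent.Etdl.H426.Iface Groth.Agent.Etdl.H426.Cover

/-- The special adjoint functor theorem for Grothendieck abelian categories: right exact functors commuting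
with coproducts. -/
theorem isLeftAdjoint_of_rightExact_coprod {C : Type*} [Category.{w} C] [Abelian C]
    [IsGrothendieckAbelian.{w} C] {D : Type*} [Category.{w} D] [Abelian D] (F : C ⥤ D) [F.Additive]
    (h1 : ∀ T : ShortComplex C, T.ShortExact → (T.map F).Exact ∧ Epi (F.map T.g))
    (h2 : ∀ J : Type w, PreservesColimitsOfShape (Discrete J) F) : F.IsLeftAdjoint := by
  have h3 : PreservesFiniteColimits F := by
    have h := (F.preservesFiniteColimits_tfae).out 0 3
    exact h.1 h1
  have := IsGrothendieckAbelian.hasColimits C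
  have h4 : PreservesColimitsOfSize.{w, w} F := preservesColimits_of_preservesCoequalizers_and_coproducts F
  have : WellPowered.{w} Cᵒᵖ := inferInstance
  exact isLeftAdjoint_of_preservesColimits_of_isSeparating (isSeparator_separator C) F

section

variable {Λ : Type (u + 1)} [CommRing Λ] {X S : Scheme.{u}} {f : X ⟶ S} (c : DEt.Compactification f)

/-- `R^N f_!` is a left adjoint if `R^{N+1} f_! = 0` and `R^N fbar_*` commutes with direct sums. -/
theorem isLeftAdjoint_Rsh (N : ℕ) (hN : ∀ M : EtModW.Mod Λ X, IsZero ((Rsh Λ c (N + 1)).obj M))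
    (hC : ∀ ι : Type (u + 1), PreservesColimitsOfShape (Discrete ι) (EtModW.Rpush Λ c.fbar N)) :
    (Rsh Λ c N).IsLeftAdjoint := by
  refine isLeftAdjoint_of_rightExact_coprod _ (fun T hT => ?_) fun J => ?_
  · have := hT.epi_g
    exact ⟨Groth.Agent.Etrest.RDer1.exact₂ (EtModW.push Λ c.fbar) (shortExact_extZeroMod c hT) N,
      epi_Rsh_map c N hN T.g⟩
  · have := hC J
    infer_instance

end

end Groth.Agent.Etdl.H425.TrColim
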