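import Groth.Agent.Etdl.H426.Iface

/-!
# Untwisting an adjunction

If `- ⊗ ω` is an equivalence and `(- ⊗ ω) ⋙ R^N f_!` is left adjoint to `f^*`, then `R^N f_!` is left adjoint to
`L ↦ f^* L ⊗ ω`; the counit is a trace map such that `phi` is bijective.
-/

set_option autoImplicit false
universe u

open CategoryTheory CategoryTheory.Limits AlgebraicGeometry Opposite

namespace Groth.Agent.Etdl.H425.TrUntw

open Groth.Agent.Etdl.H426.Iface

variable {Λ : Type (u + 1)} [CommRing Λ] {X S : Scheme.{u}} {f : X ⟶ S} (c : DEt.Compactification f)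
  {ω : EtModW.Mod Λ X} (N : ℕ)

theorem exists_tr_of_adj (adj : Rsh Λ c N ⊣ T1 Λ f ω) :
    ∃ tr : T1 Λ f ω ⋙ Rsh Λ c N ⟶ 𝟭 _, ∀ (M : EtModW.Mod Λ X) (L : EtModW.Mod Λ S),
      Function.Bijective (phi tr M L) := by
  refine ⟨adj.counit, fun M L => ?_⟩
  have h1 : (phi adj.counit M L : _ → _) = (adj.homEquiv M L).symm := by
    funext a
    rw [Adjunction.homEquiv_counit]
    rfl
  rw [h1]
  exact (adj.homEquiv M L).symm.bijective

/-- Untwisting. -/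
theorem nonempty_adj (hE : (EtDl.twistBy Λ X ω).IsEquivalence)
    (adj : EtDl.twistBy Λ X ω ⋙ Rsh Λ c N ⊣ EtModW.pull Λ f) : Nonempty (Rsh Λ c N ⊣ T1 Λ f ω) := by
  let E := (EtDl.twistBy Λ X ω).asEquivalence
  let a1 : E.inverse ⊣ EtDl.twistBy Λ X ω := E.symm.toAdjunction
  let a2 : E.inverse ⋙ EtDl.twistBy Λ X ω ⋙ Rsh Λ c N ⊣ EtModW.pull Λ f ⋙ EtDl.twistBy Λ X ω :=
    a1.comp adj
  let e : E.inverse ⋙ EtDl.twistBy Λ X ω ⋙ Rsh Λ c N ≅ Rsh Λ c N :=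
    (Functor.associator _ _ _).symm ≪≫ Functor.isoWhiskerRight E.counitIso (Rsh Λ c N) ≪≫
      Functor.leftUnitor _
  exact ⟨a2.ofNatIsoLeft e⟩

end Groth.Agent.Etdl.H425.TrUntw
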